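import Cfsg.Agent.H474.TP.RankThree
import Cfsg.Agent.Fischer.Rank22
import Cfsg.Agent.SporRec.Fi22Iso
import Cfsg.Agent.H393.Iso.Fi22
import Cfsg.Agent.NotCT.Orders

/-!
# `TP` row: `Fi₂₂` (helper474)
-/

set_option autoImplicit false

namespace Cfsg.Agent.H474.TPRows

open Subgroup Cfsg Cfsg.Agent.H393.Iso Cfsg.Agent.H691 Cfsg.Agent.H94
open Cfsg.Agent.Fischer Cfsg.Agent.Fischer.Abstract Cfsg.Agent.Fischer.Group22 Cfsg.Agent.Fischer.Rank22
open Cfsg.Agent.Fischer.Cert Cfsg.Agent.Fischer.Data22 Cfsg.Agent.Fischer.Check22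
open Cfsg.Agent.H474.RankThree

theorem not_com_low {n : ℕ} (h : n < 3510) (h1 : 1 ≤ n) (h2 : n ≤ 2816) : ¬ R.Com R.x0 (pt n h) := by
  rw [R.not_com_x0_iff]
  obtain ⟨k, hk, hk'⟩ := orbit_low n h h1 h2
  refine ⟨k * g .a, ?_, ?_⟩
  · rw [R_x0, mul_smul, fix_of_mem_H1 (g_mem_H1 (s := .a) rfl), fix_of_mem_H1 hk]
  · rw [R_b, mul_smul]
    have : g .a • pg .b = (pt 1 (by decide) : X) := by
      apply Fin.ext
      have h2 := pts_spec.2.2.2.2.2.2.2.2.2.2
      have h3 := nx_nx .a (x := 1) (by decide)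
      rw [h2] at h3
      exact h3
    rw [this, hk']

theorem card_ncom : 2816 ≤ Nat.card {y : X // ¬ R.Com R.x0 y} := by
  have h1 := Nat.card_le_card_of_injective (α := Fin 2816) (β := {y : X // ¬ R.Com R.x0 y})
    (fun i => ⟨pt (i.1 + 1) (by omega), not_com_low (by omega) (by omega) (by omega)⟩) (by
      intro a b hab
      have h2 := congrArg (fun z : {y : X // ¬ R.Com R.x0 y} => ((z : X) : ℕ)) hab
      simp only [pt_val] at h2
      exact Fin.ext (by omega))
  simpa using h1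

theorem fi22 {S : Type*} [Group S] (h : Spor.IsoFi22 S) : Cfsg.Agent.H691.TP S [(2, 11), (3, 5), (3, 11), (3, 13), (5, 7), (5, 11), (7, 11), (7, 13), (11, 13)] (65 ^ 2) := by
  have hc := NotCT.Orders.fi22 h
  have hfin : Finite S := Nat.finite_of_card_ne_zero (by rw [hc]; norm_num)
  have na := na_fi22 h
  obtain ⟨e⟩ := h
  let f : S ≃* G := e.trans Cfsg.Agent.SporRec.Fi22Iso.ψe
  have hfin' : Finite G := Finite.of_equiv S f.toEquiv
  have hN : Nat.card G = 2 ^ 17 * 492567075 := by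
    rw [← Nat.card_congr f.toEquiv, hc]; norm_num
  refine tp_of_equiv f.symm ?_
  have na' := na.of_equiv f
  have h1 := card_cent_mul_le R card_ncom
  obtain ⟨x, hx⟩ := exists_order (S := G) (r := 13) (by norm_num) (by rw [hN]; norm_num)
  have h2 := Nat.le_of_dvd (by norm_num) (card_cent_dvd hN na' hx)
  refine ⟨3, 13, W R, x, by simp, ⟨1, ?_⟩, ⟨1, ?_⟩, ?_⟩
  · rw [pow_one]
    exact W_cube R
  · have := pow_orderOf_eq_one x
    rwa [hx] at this
  · rw [hN] at h1 ⊢
    generalize Nat.card (centralizer ({W R} : Set G)) = u at h1 ⊢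
    generalize Nat.card (centralizer ({x} : Set G)) = v at h2 ⊢
    norm_num at h1 ⊢
    omega

end Cfsg.Agent.H474.TPRows
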