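import Cfsg.Agent.H474.TP.RankThree
import Cfsg.Agent.R08.FiTwentyFour
import Cfsg.Agent.H393.Iso.Fi24
import Cfsg.Agent.NotCT.Orders

/-!
# `TP` row: `Fi₂₄'` (helper474)
-/

set_option autoImplicit false

namespace Cfsg.Agent.H474.TPRows

open Subgroup Cfsg Cfsg.Agent.H393.Iso Cfsg.Agent.H691 Cfsg.Agent.H94
open Cfsg.Agent.Fischer Cfsg.Agent.Fischer.Abstract
open Cfsg.Agent.H474.RankThree

/-- the number of transpositions not commuting with the first one -/
theorem card_ncom_of {G X : Type*} [Group G] [MulAction G X] [Finite G] (R : Rank3 G X) {L : Set G}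
    (hL : Set.range R.t = L) {n k : ℕ} (hn : L.ncard = n)
    (hk : {c | c ∈ L ∧ c ≠ R.t R.x0 ∧ Commute c (R.t R.x0)}.ncard = k) :
    n ≤ Nat.card {y : X // ¬ R.Com R.x0 y} + k + 1 := by
  classical
  have h1 : L ⊆ (R.t '' {y | ¬ R.Com R.x0 y} ∪ {c | c ∈ L ∧ c ≠ R.t R.x0 ∧ Commute c (R.t R.x0)}) ∪
      {R.t R.x0} := by
    intro c hc
    by_cases h0 : c = R.t R.x0
    · right; exact h0
    · left
      by_cases h2 : Commute c (R.t R.x0)
      · right; exact ⟨hc, h0, h2⟩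
      · left
        rw [← hL] at hc
        obtain ⟨y, rfl⟩ := hc
        exact ⟨y, fun h => h2 (show R.t y * R.t R.x0 = R.t R.x0 * R.t y from h.symm), rfl⟩
  have h2 := Set.ncard_le_ncard h1 (Set.toFinite _)
  have h3 := Set.ncard_union_le (R.t '' {y | ¬ R.Com R.x0 y} ∪ {c | c ∈ L ∧ c ≠ R.t R.x0 ∧ Commute c (R.t R.x0)})
    {R.t R.x0}
  have h4 := Set.ncard_union_le (R.t '' {y | ¬ R.Com R.x0 y}) {c | c ∈ L ∧ c ≠ R.t R.x0 ∧ Commute c (R.t R.x0)}
  rw [Set.ncard_singleton] at h3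
  rw [hk, Set.ncard_image_of_injective _ R.t_injective] at h4
  have h5 : {y | ¬ R.Com R.x0 y}.ncard = Nat.card {y : X // ¬ R.Com R.x0 y} := rfl
  rw [hn] at h2
  omega

/-- abstract form -/
theorem fi24_abs {G X : Type*} [Group G] [MulAction G X] [Finite G] [Finite X] (R : Rank3 G X) (D : Subgroup G)
    (hD : D.index = 2) (hW : W R ∈ D) (hN : Nat.card D = 1255205709190661721292800) (na : NA 29 D)
    (hm : 275264 ≤ Nat.card {y : X // ¬ R.Com R.x0 y}) {L : List (ℕ × ℕ)} (hL : (3, 29) ∈ L) :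
    Cfsg.Agent.H691.TP D L (290 ^ 2) := by
  have hN' : Nat.card D = 2 ^ 21 * 598528723330813275 := by rw [hN]; norm_num
  have h1 := card_cent_mul_le R hm
  have h2 : Nat.card G = 2 * 1255205709190661721292800 := by
    rw [← D.card_mul_index, hD, hN, mul_comm]
  obtain ⟨x, hx⟩ := exists_order (S := D) (r := 29) (by norm_num) (by rw [hN]; norm_num)
  have h3 := Nat.le_of_dvd (by norm_num) (card_cent_dvd hN' na hx)
  have h4 : Nat.card (centralizer ({(⟨W R, hW⟩ : D)} : Set D)) ≤ Nat.card (centralizer ({W R} : Set G)) := by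
    refine Nat.card_le_card_of_injective (fun y => ⟨((y : D) : G), mem_centralizer_singleton_iff.2
      (congrArg Subtype.val (mem_centralizer_singleton_iff.1 y.2))⟩) ?_
    intro a b hab
    have := congrArg Subtype.val hab
    exact Subtype.ext (Subtype.ext this)
  refine ⟨3, 29, ⟨W R, hW⟩, x, hL, ⟨1, Subtype.ext ?_⟩, ⟨1, ?_⟩, ?_⟩
  · rw [pow_one]
    exact W_cube R
  · have := pow_orderOf_eq_one x
    rwa [hx] at this
  · rw [hN]
    rw [h2] at h1
    have h5 := h4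
    generalize Nat.card (centralizer ({(⟨W R, hW⟩ : D)} : Set D)) = u at h5 ⊢
    generalize Nat.card (centralizer ({W R} : Set G)) = w at h1 h5
    generalize Nat.card (centralizer ({x} : Set D)) = v at h3 ⊢
    norm_num at h1 ⊢
    omega

theorem fi24 {S : Type*} [Group S] (h : Spor.IsoFi24' S) : Cfsg.Agent.H691.TP S [(2, 23), (3, 11), (3, 13), (3, 17), (3, 23), (3, 29), (5, 7), (5, 11), (5, 23), (7, 11), (7, 13), (7, 17), (7, 23), (7, 29), (11, 13), (11, 17), (11, 23), (11, 29), (13, 17), (13, 23), (13, 29), (17, 23), (17, 29), (23, 29)] (290 ^ 2) := by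
  have hfin' := Cfsg.Agent.R08.FiTwentyFour.finite_Fi24
  obtain ⟨R, hR, _, hRL⟩ := Cfsg.Agent.R08.FiTwentyFour.facts.exists_rank3
  obtain ⟨e⟩ := h
  refine tp_of_equiv e.symm ?_
  have hmem : ∀ x, R.t x ∈ Cfsg.Agent.R08.FiTwentyFour.L := fun x => by rw [← hRL]; exact ⟨x, rfl⟩
  refine fi24_abs R _ Cfsg.Agent.R08.FiTwentyFour.index_commutator
    (Cfsg.Agent.R08.FiTwentyFour.even (hmem _) (hmem _)) Cfsg.Agent.R08.FiTwentyFour.card_commutator na_fi24_model ?_
    (by simp)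
  have h1 := card_ncom_of R hRL Cfsg.Agent.R08.FiTwentyFour.ncard_L
    (Cfsg.Agent.R08.FiTwentyFour.ncard_commuting (hmem _))
  omega

end Cfsg.Agent.H474.TPRows
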