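import Cfsg.Agent.H474.TP.Inter
import Cfsg.Agent.H393.Iso.TitsJ4
import Cfsg.Agent.TitsK.ParC
import Cfsg.Agent.TitsK.Inst
import Cfsg.Agent.NotCT.Orders

/-!
# `TP` row: the Tits group (helper474)
-/

set_option autoImplicit false

namespace Cfsg.Agent.H474.TPRows

open Subgroup Cfsg Cfsg.Agent.H393.Iso Cfsg.Agent.H691 Cfsg.Agent.H94
open Cfsg.Agent.TitsK
open Cfsg.Agent.FourTwo.Base hiding bar bar_lt
open Cfsg.Agent.FourTwo.BN

/-- abstract form: the elements `x ^ k z ^ l j ^ m` of a 2-group in `T` -/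
theorem tits_cases {G : Type*} [Group G] {U T : Subgroup G} {x z j p : G} (hU : IsPGroup 2 U) (h5 : x ^ 5 = 1)
    (hj : j * j = z) (hz : z * z = 1) (hjx : j * x = x * j) (hjT : j ∉ T) (hxT : x ∈ T) (hzT : z ∈ T)
    (hpU : p ∈ U) (hpT : p ∈ T) (h : ∃ k l m : ℕ, p = x ^ k * z ^ l * j ^ m) : p = 1 ∨ p = z := by
  obtain ⟨k, l, m, rfl⟩ := h
  have cj : Commute j x := hjx
  have cz : Commute z x := by rw [← hj]; exact cj.mul_left cj
  have czj : Commute z j := by rw [← hj]; exact (Commute.refl j).mul_left (Commute.refl j)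
  obtain ⟨n, hn⟩ := hU ⟨_, hpU⟩
  have hn' : (x ^ k * z ^ l * j ^ m) ^ 2 ^ n = 1 := congrArg Subtype.val hn
  have h4 : (z ^ l * j ^ m) ^ 4 = 1 := by
    have e1 : (z ^ l * j ^ m) ^ 4 = (z * z) ^ (2 * l) * (z * z) ^ m := by
      rw [((czj.pow_left l).pow_right m).mul_pow, ← pow_two z, ← pow_mul, ← pow_mul, ← pow_mul, ← pow_mul]
      congr 1
      · ring_nf
      · rw [show m * 4 = 4 * m by ring, pow_mul j 4 m, show j ^ 4 = z ^ 2 by
          rw [show (4 : ℕ) = 2 * 2 by norm_num, pow_mul, pow_two j, hj], ← pow_mul]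
    rw [e1, hz, one_pow, one_pow, mul_one]
  have h5' : x ^ k = 1 := by
    have c1 : Commute (x ^ k) (z ^ l * j ^ m) :=
      ((cz.symm.pow_left k).pow_right l).mul_right ((cj.symm.pow_left k).pow_right m)
    rw [mul_assoc, c1.mul_pow] at hn'
    have h6 : (x ^ k) ^ (2 ^ n * 4) = 1 := by
      have h7 : (x ^ k) ^ 2 ^ n = ((z ^ l * j ^ m) ^ 2 ^ n)⁻¹ := eq_inv_of_mul_eq_one_left hn'
      rw [pow_mul, h7, inv_pow, ← pow_mul, mul_comm, pow_mul, h4, one_pow, inv_one]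
    have h8 : orderOf (x ^ k) ∣ 2 ^ n * 4 := orderOf_dvd_of_pow_eq_one h6
    have h9 : orderOf (x ^ k) ∣ 5 := orderOf_dvd_of_pow_eq_one (by rw [← pow_mul, mul_comm, pow_mul, h5, one_pow])
    have hc : Nat.Coprime (2 ^ n * 4) 5 := by
      refine Nat.Coprime.mul_left (Nat.Coprime.pow_left n (by norm_num)) (by norm_num)
    exact orderOf_eq_one_iff.1 (Nat.eq_one_of_dvd_coprimes hc h8 h9)
  rw [h5', one_mul] at hpT ⊢
  have hjm : j ^ m ∈ T := by
    have := T.mul_mem (T.inv_mem (T.pow_mem hzT l)) hpT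
    rwa [inv_mul_cancel_left] at this
  obtain ⟨a, ha⟩ : ∃ a, m = 2 * a := by
    rcases Nat.even_or_odd' m with ⟨a, h | h⟩
    · exact ⟨a, h⟩
    · exfalso
      apply hjT
      rw [h, pow_succ, pow_mul, pow_two, hj] at hjm
      have := T.mul_mem (T.inv_mem (T.pow_mem hzT a)) hjm
      rwa [inv_mul_cancel_left] at this
  rw [ha, pow_mul, pow_two, hj, ← pow_add]
  rcases Nat.even_or_odd' (l + a) with ⟨b, hb | hb⟩
  · left
    rw [hb, pow_mul, pow_two, hz, one_pow]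
  · right
    rw [hb, pow_succ, pow_mul, pow_two, hz, one_pow, one_mul]

/-- abstract form of the bound -/
theorem tits_index {G : Type*} [Group G] [Finite G] {U T : Subgroup G} {x z : G} (hxT : x ∈ T)
    (hc : ∀ p ∈ U, p ∈ T → p * x = x * p → p = 1 ∨ p = z) (hUT : Nat.card (U ⊓ T : Subgroup G) = 2048) :
    1024 ≤ (centralizer ({(⟨x, hxT⟩ : T)} : Set T)).index := by
  have h1 := card_le_inf_mul_index ((U ⊓ T).subgroupOf T) (centralizer ({(⟨x, hxT⟩ : T)} : Set T))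
  rw [Nat.card_congr (subgroupOfEquivOfLe (inf_le_right : U ⊓ T ≤ T)).toEquiv, hUT] at h1
  have h2 : Nat.card ((U ⊓ T).subgroupOf T ⊓ centralizer ({(⟨x, hxT⟩ : T)} : Set T) : Subgroup T) ≤ 2 := by
    classical
    have h3 : ∀ y : ((U ⊓ T).subgroupOf T ⊓ centralizer ({(⟨x, hxT⟩ : T)} : Set T) : Subgroup T),
        ((y : T) : G) = 1 ∨ ((y : T) : G) = z := by
      intro y
      obtain ⟨h4, h5⟩ := mem_inf.1 y.2
      exact hc _ (mem_inf.1 (mem_subgroupOf.1 h4)).1 (y : T).2 (congrArg Subtype.val (mem_centralizer_singleton_iff.1 h5))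
    have h4 : Nat.card ((U ⊓ T).subgroupOf T ⊓ centralizer ({(⟨x, hxT⟩ : T)} : Set T) : Subgroup T) ≤
        Nat.card Bool := by
      refine Nat.card_le_card_of_injective (fun y => decide (((y : T) : G) = 1)) ?_
      intro a b hab
      simp only [decide_eq_decide] at hab
      apply Subtype.ext
      apply Subtype.ext
      rcases h3 a with ha | ha
      · rw [ha, hab.1 ha]
      · rcases h3 b with hb | hb
        · rw [hb, hab.2 hb]
        · rw [ha, hb]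
    simpa using h4
  have h3 := h1.trans (Nat.mul_le_mul_right _ h2)
  omega

theorem tits_of {G : Type*} [Group G] [Finite G] {U T : Subgroup G} {x z j : G} (hU : IsPGroup 2 U) (h5 : x ^ 5 = 1)
    (hj : j * j = z) (hz : z * z = 1) (hjx : j * x = x * j) (hjT : j ∉ T) (hxT : x ∈ T) (hzT : z ∈ T)
    (hc : ∀ p ∈ U, p * x = x * p → ∃ k l m : ℕ, p = x ^ k * z ^ l * j ^ m)
    (hUT : Nat.card (U ⊓ T : Subgroup G) = 2048) (hT : Nat.card T = 17971200) (na : NA 13 T) :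
    Cfsg.Agent.H691.TP T [(3, 5), (3, 13), (5, 13)] (26 ^ 2) := by
  have hN : Nat.card T = 2 ^ 11 * 8775 := by rw [hT]; norm_num
  have h1 := tits_index (z := z) hxT (fun p hp hpT hpx => tits_cases hU h5 hj hz hjx hjT hxT hzT hp hpT (hc p hp hpx)) hUT
  have h2 := card_mul_index (centralizer ({(⟨x, hxT⟩ : T)} : Set T))
  rw [hT] at h2
  have h3 : Nat.card (centralizer ({(⟨x, hxT⟩ : T)} : Set T)) ≤ 17550 := by
    by_contra hcon
    push Not at hcon
    have := Nat.mul_le_mul hcon h1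
    omega
  obtain ⟨y, hy⟩ := exists_order (S := T) (r := 13) (by norm_num) (by rw [hT]; norm_num)
  have h4 := cent_le (K := 14) (by norm_num) hN (by norm_num) (by norm_num) na (by decide +kernel) hy
  refine ⟨5, 13, ⟨x, hxT⟩, y, by simp, ⟨1, Subtype.ext ?_⟩, ⟨1, ?_⟩, ?_⟩
  · rw [pow_one]
    exact h5
  · have := pow_orderOf_eq_one y
    rwa [hy] at this
  · rw [hT]
    have h5 := Nat.add_le_add h3 h4
    refine lt_of_le_of_lt (Nat.mul_le_mul_right _ h5) ?_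
    norm_num

theorem cent_UT {p : LL} (hp : p ∈ UT) (h : p * xf = xf * p) : ∃ k l m : ℕ, p = xf ^ k * z ^ l * jf ^ m :=
  cent_xf (UT_le_Pz hp) h

theorem card_ST : Nat.card (UT ⊓ TT : Subgroup LL) = 2048 := by
  have h1 : Nat.card (UT ⊓ TT : Subgroup LL) ∣ 2 ^ 12 := by
    rw [← card_UT]
    exact card_dvd_of_le inf_le_left
  have h2 : Nat.card (UT ⊓ TT : Subgroup LL) * (UT ⊓ TT).relIndex TT = Nat.card TT := by
    rw [relIndex, ← card_mul_index ((UT ⊓ TT).subgroupOf TT),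
      Nat.card_congr (subgroupOfEquivOfLe (inf_le_right : UT ⊓ TT ≤ TT)).toEquiv]
  rw [card_TT] at h2
  have h3 : 2 ^ 11 ∣ Nat.card (UT ⊓ TT : Subgroup LL) := by
    refine (Nat.Coprime.pow_left 11 ((Nat.Prime.coprime_iff_not_dvd Nat.prime_two).2 odd_ST)).dvd_of_dvd_mul_right ?_
    rw [h2]
    exact ⟨3 ^ 3 * 5 ^ 2 * 13, by norm_num⟩
  obtain ⟨a, ha⟩ := (Nat.dvd_prime_pow Nat.prime_two).1 h1
  obtain ⟨b, hb⟩ := h3
  have h4 : 2 ^ 11 * b ∣ 2 ^ 12 := hb ▸ h1
  have h5 : b ∣ 2 := by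
    have : 2 ^ 11 * b ∣ 2 ^ 11 * 2 := by simpa using h4
    exact Nat.dvd_of_mul_dvd_mul_left (by norm_num) this
  rcases (Nat.dvd_prime Nat.prime_two).1 h5 with rfl | rfl
  · rw [hb]
    norm_num
  · exfalso
    rw [hb] at h2
    omega

theorem tits_abs {G : Type*} [Group G] [Finite G] {U T : Subgroup G} {x z j : G} (hU : IsPGroup 2 U) (h5 : x ^ 5 = 1)
    (hj : j * j = z) (hz : z * z = 1) (hjx : j * x = x * j) (hjT : j ∉ T) (hxT : x ∈ T) (hzT : z ∈ T)
    (hc : ∀ p ∈ U, p * x = x * p → ∃ k l m : ℕ, p = x ^ k * z ^ l * j ^ m)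
    (hUT : Nat.card (U ⊓ T : Subgroup G) = 2048) {S : Type*} [Group S] (hS : Lie.IsoTits S)
    (h : Nonempty (Lie.TitsGroup ≃* T)) :
    Cfsg.Agent.H691.TP S [(3, 5), (3, 13), (5, 13)] (26 ^ 2) := by
  have hcS := NotCT.Orders.tits hS
  have hfin : Finite S := Nat.finite_of_card_ne_zero (by rw [hcS]; norm_num)
  have na := na_tits hS
  obtain ⟨e⟩ := hS
  obtain ⟨e'⟩ := h
  refine tp_of_equiv (e.trans e').symm ?_
  refine tits_of hU h5 hj hz hjx hjT hxT hzT hc hUT ?_ (na.of_equiv (e.trans e'))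
  rw [← Nat.card_congr (e.trans e').toEquiv, hcS]

theorem tits {S : Type*} [Group S] (h : Lie.IsoTits S) : Cfsg.Agent.H691.TP S [(3, 5), (3, 13), (5, 13)] (26 ^ 2) :=
  tits_abs (G := LL) (U := UT) (T := TT) (x := xf) (z := z) (j := jf) isPGroup_UT xf_pow5 jf_sq z_sq jf_comm_xf
    jf_not_mem xf_mem_TT z_mem_TT (fun _ hp hpx => cent_UT hp hpx) card_ST h exists_equiv

end Cfsg.Agent.H474.TPRows
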