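import Cfsg.Agent.H474.TP.Base
import Cfsg.Agent.H393.Iso.Co1
import Cfsg.Agent.H393.Iso.Co2
import Cfsg.Agent.H393.Iso.Co3
import Cfsg.Agent.H393.Iso.Suz
import Cfsg.Agent.H393.Iso.HS
import Cfsg.Agent.H393.Iso.Ru
import Cfsg.Agent.KFacts.CoTwo.QuotInst
import Cfsg.Agent.NotCT.Orders

/-!
# `TP` rows: `Co₁`, `Co₂`, `Co₃`, `Suz`, `HS`, `Ru` (helper474)
-/

set_option autoImplicit false

namespace Cfsg.Agent.H474.TPRows

open Subgroup Cfsg Cfsg.Agent.H393.Iso Cfsg.Agent.H691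

theorem co1 {S : Type*} [Group S] (h : Spor.IsoCo1 S) : Cfsg.Agent.H691.TP S [(2, 23), (3, 5), (3, 11), (3, 13), (3, 23), (5, 7), (5, 11), (5, 23), (7, 11), (7, 13), (7, 23), (11, 13), (11, 23), (13, 23)] (65 ^ 2) := by
  have hc := NotCT.Orders.co1 h
  have hfin : Finite S := Nat.finite_of_card_ne_zero (by rw [hc]; norm_num)
  obtain ⟨e⟩ := h
  have hfin' : Finite Spor.Co1 := Finite.of_equiv S e.toEquiv
  have hN : Nat.card Spor.Co1 = 2 ^ 21 * 1982582476875 := by
    rw [← Nat.card_congr e.toEquiv, hc]; norm_num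
  refine tp_of_equiv e.symm ?_
  have D := Cfsg.Agent.KFacts.Co1D4.Main.setup
  refine tp_two' (r := 23) (t := _) (c := 8 * 251596800) (by norm_num) hN (by norm_num) (by norm_num) na_co1_model
    (two_pow_of_sq D.ww) (D.card.trans (by rw [Cfsg.Agent.KFacts.Co1D4.GTwo.card_L])) (by simp) (by norm_num)

theorem co2 {S : Type*} [Group S] (h : Spor.IsoCo2 S) : Cfsg.Agent.H691.TP S [(2, 7), (2, 23), (3, 5), (3, 7), (3, 11), (3, 23), (5, 7), (5, 11), (5, 23), (7, 11), (7, 23), (11, 23)] (50 ^ 2) := by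
  have hc := NotCT.Orders.co2 h
  have hfin : Finite S := Nat.finite_of_card_ne_zero (by rw [hc]; norm_num)
  obtain ⟨e⟩ := h
  have hfin' : Finite Spor.Co2 := Finite.of_equiv S e.toEquiv
  have hN : Nat.card Spor.Co2 = 2 ^ 18 * 161382375 := by
    rw [← Nat.card_congr e.toEquiv, hc]; norm_num
  refine tp_of_equiv e.symm ?_
  have D := KFacts.CoTwo.QuotInst.dataT
  obtain ⟨π, hπ, hk⟩ := D.quot
  refine tp_two' (r := 23) (t := _) (c := 2 ^ 9 * 1451520) (by norm_num) hN (by norm_num) (by norm_num) na_co2_model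
    (two_pow_of_sq D.large.z_sq) ?_ (by simp) (by norm_num)
  rw [Subgroup.card_eq_card_quotient_mul_card_subgroup π.ker,
    Nat.card_congr (QuotientGroup.quotientKerEquivOfSurjective π hπ).toEquiv,
    show Nat.card KFacts.CoTwo.Quot.Sp62 = 1451520 from Co2Type.Setup.card_sp6, mul_comm]
  refine Nat.mul_le_mul_right _ ?_
  rw [← KFacts.CoTwo.RLarge.card_R]
  refine Nat.card_le_card_of_injective (fun x : π.ker => (⟨x.1.1, (hk x.1).1 x.2⟩ : KFacts.CoTwo.RSub.R)) ?_
  intro a b hab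
  have := congrArg Subtype.val hab
  exact Subtype.ext (Subtype.ext this)

theorem co3 {S : Type*} [Group S] (h : Spor.IsoCo3 S) : Cfsg.Agent.H691.TP S [(2, 7), (2, 23), (3, 5), (3, 7), (3, 11), (3, 23), (5, 7), (5, 11), (5, 23), (7, 11), (7, 23), (11, 23)] (50 ^ 2) := by
  have hc := NotCT.Orders.co3 h
  have hfin : Finite S := Nat.finite_of_card_ne_zero (by rw [hc]; norm_num)
  obtain ⟨e⟩ := h
  have hfin' : Finite Spor.Co3 := Finite.of_equiv S e.toEquiv
  have hN : Nat.card Spor.Co3 = 2 ^ 10 * 484147125 := by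
    rw [← Nat.card_congr e.toEquiv, hc]; norm_num
  refine tp_of_equiv e.symm ?_
  obtain ⟨w, D⟩ := CTwoTab.Co3.exists_data
  let f := SporRec.Co3.Model.equivCo3
  refine tp_of_equiv f ?_
  have hfin2 := CTwoTab.Co3.finite_G3
  have hN' := (Nat.card_congr f.toEquiv).trans hN
  have na := na_co3_model.of_equiv f.symm
  obtain ⟨π, N⟩ := D.ns
  refine tp_two (r := 23) (b := 484147125 / (2 + 1)) (c := 2903040) (by norm_num) hN' (by norm_num) na
    (two_pow_of_orderOf D.t2) (CTwoTab.Co3.card_of_NS N).le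
    (fun x hx => cent_le (K := 2) (by norm_num) hN' (by norm_num) (by norm_num) na (by decide +kernel) hx)
    (by simp) (by norm_num)

theorem suz {S : Type*} [Group S] (h : Spor.IsoSuz S) : Cfsg.Agent.H691.TP S [(2, 11), (3, 5), (3, 11), (3, 13), (5, 7), (5, 11), (7, 11), (7, 13), (11, 13)] (65 ^ 2) := by
  have hc := NotCT.Orders.suz h
  have hfin : Finite S := Nat.finite_of_card_ne_zero (by rw [hc]; norm_num)
  obtain ⟨e⟩ := h
  have hfin' : Finite Spor.Suz := Finite.of_equiv S e.toEquiv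
  have hN : Nat.card Spor.Suz = 2 ^ 13 * 54729675 := by
    rw [← Nat.card_congr e.toEquiv, hc]; norm_num
  refine tp_of_equiv e.symm ?_
  exact tp_two' (r := 11) (t := KFacts.SuzLFour.e0) (c := 161280) (by norm_num) hN (by norm_num) (by norm_num) na_suz_model
    (two_pow_of_sq (SuzThree.Basic.gen_sq .e)) KFacts.SuzTwoB.card_CE.le (by simp) (by norm_num)

theorem hs {S : Type*} [Group S] (h : Spor.IsoHS S) : Cfsg.Agent.H691.TP S [(2, 7), (2, 11), (3, 5), (3, 7), (3, 11), (5, 7), (5, 11), (7, 11)] (50 ^ 2) := by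
  have hc := NotCT.Orders.hs h
  have hfin : Finite S := Nat.finite_of_card_ne_zero (by rw [hc]; norm_num)
  have hN : Nat.card S = 2 ^ 9 * 86625 := by rw [hc]; norm_num
  obtain ⟨D⟩ := Cfsg.Agent.KFacts.HS.exists_mod h
  exact tp_two (r := 11) (t := KFacts.HS.DFour.wB D) (c := 2880) (b := 86625 / (6 + 1)) (by norm_num) hN (by norm_num) (na_hs h)
    (two_pow_of_sq (KFacts.HS.DFour.wB_sq D)) (KFacts.HS.DFour.card_C D)
    (fun x hx => cent_le (K := 6) (by norm_num) hN (by norm_num) (by norm_num) (na_hs h) (by decide +kernel) hx)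
    (by simp) (by norm_num)

theorem ru {S : Type*} [Group S] (h : Spor.IsoRu S) : Cfsg.Agent.H691.TP S [(2, 29), (3, 13), (3, 29), (5, 7), (5, 29), (7, 13), (7, 29), (13, 29)] (65 ^ 2) := by
  have hc := NotCT.Orders.ru h
  have hfin : Finite S := Nat.finite_of_card_ne_zero (by rw [hc]; norm_num)
  have hN : Nat.card S = 2 ^ 14 * 8906625 := by rw [hc]; norm_num
  obtain ⟨C, -⟩ := Cfsg.Agent.KFacts.Ru.exists_core h
  obtain ⟨a, ha⟩ : ∃ a : RuB.A4, a ≠ 0 := ⟨1, by decide⟩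
  exact tp_two' (r := 29) (t := C.v a) (c := 4 * 29120) (by norm_num) hN (by norm_num) (by norm_num) (na_ru h)
    (two_pow_of_sq (C.v_sq a)) (RuB.Local.card_cent_v (C := C) ha).le (by simp) (by norm_num)

end Cfsg.Agent.H474.TPRows
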