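import Cfsg.Agent.H474.TP.Base
import Cfsg.Agent.H393.Iso.ON
import Cfsg.Agent.H393.Iso.Baby
import Cfsg.Agent.H393.Iso.Fi23
import Cfsg.Agent.NotCT.Orders

/-!
# `TP` rows: `O'N`, `B`, `Fi₂₃` (helper474)
-/

set_option autoImplicit false

namespace Cfsg.Agent.H474.TPRows

open Subgroup Cfsg Cfsg.Agent.H393.Iso Cfsg.Agent.H691

theorem na_on_nineteen [Finite Cfsg.Spor.ON] : NA 19 Cfsg.Spor.ON := by
  refine NA.of_isConj (fun s => s = Cfsg.Agent.SporadicB.ON45Word.on .f) (fun t ht ht1 => ⟨_, rfl, ?_⟩) ?_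
  · exact (Cfsg.Agent.KFacts.ON.OneClass.one_class ht ht1).symm
  · rintro s rfl x hx hxs
    refine not_comm_of_card ?_ hx hxs
    rw [Cfsg.Agent.KFacts.ON.Cent.card_cent]
    norm_num

theorem on {S : Type*} [Group S] (h : Spor.IsoON S) : Cfsg.Agent.H691.TP S [(2, 11), (2, 19), (3, 19), (3, 31), (5, 7), (5, 11), (5, 19), (5, 31), (7, 11), (7, 19), (7, 31), (11, 19), (11, 31), (19, 31)] (126 ^ 2) := by
  have hc := NotCT.Orders.on h
  have hfin : Finite S := Nat.finite_of_card_ne_zero (by rw [hc]; norm_num)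
  obtain ⟨e⟩ := h
  have hfin' : Finite Spor.ON := Finite.of_equiv S e.toEquiv
  have hN : Nat.card Spor.ON = 2 ^ 9 * 900030285 := by
    rw [← Nat.card_congr e.toEquiv, hc]; norm_num
  refine tp_of_equiv e.symm ?_
  obtain ⟨t, ht⟩ := exists_order (S := Spor.ON) Nat.prime_two (by rw [hN]; norm_num)
  refine tp_two (r := 19) (t := t) (c := 161280) (b := 900030285 / (32 + 1)) (by norm_num) hN (by norm_num)
    na_on_nineteen (two_pow_of_orderOf ht) ?_
    (fun x hx => cent_le (K := 32) (by norm_num) hN (by norm_num) (by norm_num) na_on_nineteen (by decide +kernel) hx)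
    (by simp) (by norm_num)
  rw [card_cent_isConj (Cfsg.Agent.KFacts.ON.OneClass.one_class (sq_of_two ht) (ne_one_of_two ht)).symm,
    Cfsg.Agent.KFacts.ON.Cent.card_cent]

theorem b {S : Type*} [Group S] (h : Spor.IsoB S) : Cfsg.Agent.H691.TP S [(2, 19), (2, 47), (3, 13), (3, 17), (3, 19), (3, 31), (3, 47), (5, 7), (5, 11), (5, 19), (5, 23), (5, 31), (5, 47), (7, 11), (7, 13), (7, 17), (7, 19), (7, 23), (7, 31), (7, 47), (11, 13), (11, 17), (11, 19), (11, 23), (11, 31), (11, 47), (13, 19), (13, 23), (13, 31), (13, 47), (17, 19), (17, 23), (17, 31), (17, 47), (19, 23), (19, 31), (19, 47), (23, 31), (23, 47), (31, 47)] (2210 ^ 2) := by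
  have hc := NotCT.Orders.b h
  have hfin : Finite S := Nat.finite_of_card_ne_zero (by rw [hc]; norm_num)
  obtain ⟨e⟩ := h
  have hfin' : Finite Spor.BabyMonster := Finite.of_equiv S e.toEquiv
  have hN : Nat.card Spor.BabyMonster = 2 ^ 41 * 1889375872099856765625 := by
    rw [← Nat.card_congr e.toEquiv, hc]; norm_num
  refine tp_of_equiv e.symm ?_
  obtain ⟨K, _, _, hK, t, X₀, σ, D, -, hct⟩ := CTwoTab.BInst.exists_sec
  exact tp_two' (r := 47) (t := t) (c := 306129918735099415756800) (by norm_num) hN (by norm_num) (by norm_num) na_b_model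
    (two_pow_of_sq D.t_sq) hct.le (by simp) (by norm_num)

theorem card_le_two_mul {X : Type*} [Group X] [Finite X] {H K : Subgroup X}
    (h : ∀ x ∈ K, ∀ y ∈ K, x ∉ H → y ∉ H → x⁻¹ * y ∈ H) : Nat.card K ≤ 2 * Nat.card H := by
  classical
  by_cases hKH : K ≤ H
  · have := Nat.card_le_card_of_injective _ (inclusion_injective hKH)
    omega
  · obtain ⟨x0, hx0, hx0'⟩ := SetLike.not_le_iff_exists.1 hKH
    have h1 : Nat.card K ≤ Nat.card (H ⊕ H) := by
      refine Nat.card_le_card_of_injective (fun k : K => if hk : (k : X) ∈ H then Sum.inl ⟨k, hk⟩ else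
        Sum.inr ⟨x0⁻¹ * k, h x0 hx0 k k.2 hx0' hk⟩) ?_
      intro a b hab
      by_cases ha : (a : X) ∈ H <;> by_cases hb : (b : X) ∈ H <;> simp only [ha, hb, dif_pos, dif_neg,
        not_false_eq_true, Sum.inl.injEq, Sum.inr.injEq, Subtype.mk.injEq, reduceCtorEq, mul_right_inj] at hab
      · exact Subtype.ext hab
      · exact Subtype.ext hab
    rw [Nat.card_sum] at h1
    omega

section Fi23

open Cfsg.Agent.Fischer.Fi23Z Cfsg.Agent.Fischer.Fi23Hom
open Cfsg.Agent.Fischer Cfsg.Agent.Fischer.Fi23Class Cfsg.Agent.Fischer.Fi23Simple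
open Cfsg.Agent.KFacts.FiTTh.Cent
open Cfsg.Spor Cfsg.Spor.Fi23
open Cfsg.Agent.CTwoTab.Fi23

theorem card_pi2 [Finite Fi23] : Nat.card (centralizer Ds2) ≤ 9196830720 * 4 := by
  classical
  obtain ⟨π, hπ, hk⟩ := exists_pi2
  rw [Subgroup.card_eq_card_quotient_mul_card_subgroup π.ker,
    Nat.card_congr (QuotientGroup.quotientKerEquivOfSurjective π hπ).toEquiv,
    card_U]
  refine Nat.mul_le_mul_left _ ?_
  have h1 : Nat.card π.ker ≤ ({1, z0, gen .a, z0 * gen .a} : Finset Fi23).card := by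
    refine Nat.card_eq_fintype_card (α := ({1, z0, gen .a, z0 * gen .a} : Finset Fi23)) ▸
      Nat.card_le_card_of_injective (fun x : π.ker => (⟨x.1.1, by
        have := (hk x.1).1 x.2
        simp only [Finset.mem_insert, Finset.mem_singleton]
        exact this⟩ : ({1, z0, gen .a, z0 * gen .a} : Finset Fi23))) ?_ |>.trans (by simp)
    intro a b hab
    have := congrArg Subtype.val hab
    exact Subtype.ext (Subtype.ext this)
  refine h1.trans ?_
  exact Finset.card_le_four

theorem card_W2 [Finite Fi23] : Nat.card (centralizer ({W2} : Set Fi23)) ≤ 2 * (9196830720 * 4) := by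
  refine (card_le_two_mul (H := centralizer Ds2) ?_).trans (Nat.mul_le_mul_left 2 card_pi2)
  have key : ∀ x ∈ centralizer ({W2} : Set Fi23), x ∉ centralizer Ds2 → x * z0 * x⁻¹ = gen .a := by
    intro x hx hx'
    rcases perm2 (mem_centralizer_singleton_iff.1 hx) (x := z0) (Or.inl rfl) with h | h
    · exfalso
      apply hx'
      have h1 : x * z0 = z0 * x := by
        calc x * z0 = x * z0 * x⁻¹ * x := by group
          _ = z0 * x := by rw [h]
      rw [mem_cent2]
      refine ⟨h1, ?_⟩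
      have h2 : x * (z0 * gen .a) = z0 * gen .a * x := mem_centralizer_singleton_iff.1 hx
      have h3 : z0 * (x * gen .a) = z0 * (gen .a * x) := by
        calc z0 * (x * gen .a) = (z0 * x) * gen .a := by group
          _ = (x * z0) * gen .a := by rw [h1]
          _ = x * (z0 * gen .a) := by group
          _ = z0 * gen .a * x := h2
          _ = z0 * (gen .a * x) := by group
      exact mul_left_cancel h3
    · exact h
  have key2 : ∀ x ∈ centralizer ({W2} : Set Fi23), x * z0 = z0 * x → x ∈ centralizer Ds2 := by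
    intro x hx h1
    rw [mem_cent2]
    refine ⟨h1, ?_⟩
    have h2 : x * (z0 * gen .a) = z0 * gen .a * x := mem_centralizer_singleton_iff.1 hx
    have h3 : z0 * (x * gen .a) = z0 * (gen .a * x) := by
      calc z0 * (x * gen .a) = (z0 * x) * gen .a := by group
        _ = (x * z0) * gen .a := by rw [h1]
        _ = x * (z0 * gen .a) := by group
        _ = z0 * gen .a * x := h2
        _ = z0 * (gen .a * x) := by group
    exact mul_left_cancel h3
  intro x hx y hy hx' hy'
  refine key2 _ (mul_mem (inv_mem hx) hy) ?_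
  have h1 := key x hx hx'
  have h2 := key y hy hy'
  have h3 : y * z0 * y⁻¹ = x * z0 * x⁻¹ := by rw [h1, h2]
  calc x⁻¹ * y * z0 = x⁻¹ * (y * z0 * y⁻¹) * y := by group
    _ = x⁻¹ * (x * z0 * x⁻¹) * y := by rw [h3]
    _ = z0 * (x⁻¹ * y) := by group

theorem fi23 {S : Type*} [Group S] (h : Spor.IsoFi23 S) : Cfsg.Agent.H691.TP S [(2, 23), (3, 11), (3, 13), (3, 17), (3, 23), (5, 7), (5, 11), (5, 23), (7, 11), (7, 13), (7, 17), (7, 23), (11, 13), (11, 17), (11, 23), (13, 17), (13, 23), (17, 23)] (170 ^ 2) := by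
  have hc := NotCT.Orders.fi23 h
  have hfin : Finite S := Nat.finite_of_card_ne_zero (by rw [hc]; norm_num)
  obtain ⟨e⟩ := h
  have hfin' : Finite Spor.Fi23 := Finite.of_equiv S e.toEquiv
  have hN : Nat.card Spor.Fi23 = 2 ^ 18 * 15600091832325 := by
    rw [← Nat.card_congr e.toEquiv, hc]; norm_num
  refine tp_of_equiv e.symm ?_
  have hW : W2 * W2 = 1 := by
    unfold W2
    calc z0 * gen .a * (z0 * gen .a) = z0 * (gen .a * z0) * gen .a := by group
      _ = (z0 * z0) * (gen .a * gen .a) := by rw [za]; group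
      _ = 1 := by rw [KFacts.FiTTh.Cent.zz, Cfsg.Agent.Fischer.Fi23Final.gen_sq, one_mul]
  exact tp_two' (r := 23) (t := W2) (c := 2 * (9196830720 * 4)) (by norm_num) hN (by norm_num) (by norm_num)
    na_fi23_model (two_pow_of_sq hW) card_W2 (by simp) (by norm_num)

end Fi23

end Cfsg.Agent.H474.TPRows
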