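import Cfsg.Agent.H474.TP.Inter
import Cfsg.Agent.H393.Iso.He
import Cfsg.Agent.J2Type.ThreeF
import Cfsg.Agent.KFacts.J2.Facts
import Cfsg.Agent.CpAut.SmallP.He
import Cfsg.Agent.NotCT.Orders

/-!
# `TP` rows: `J₂`, `He` (helper474)
-/

set_option autoImplicit false

namespace Cfsg.Agent.H474.TPRows

open Subgroup Cfsg Cfsg.Agent.H393.Iso Cfsg.Agent.H691 Cfsg.Agent.H94

/-- an element of prime order generating a self-centralizing subgroup -/
theorem exists_cent_of_card {S : Type*} [Group S] [Finite S] {r : ℕ} (hr : r.Prime) {P : Subgroup S}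
    (hcP : Nat.card P = r) (hP : centralizer (P : Set S) = P) :
    ∃ x : S, orderOf x = r ∧ Nat.card (centralizer ({x} : Set S)) = r := by
  obtain ⟨y, hy⟩ := exists_order (S := P) hr (by rw [hcP])
  obtain ⟨x, rfl⟩ : ∃ x : S, x = y := ⟨_, rfl⟩
  have hx' : orderOf (y : S) = r := by rw [orderOf_coe]; exact hy
  refine ⟨y, hx', ?_⟩
  have hz : zpowers (y : S) = P := by
    apply eq_of_le_of_card_ge (zpowers_le.2 y.2)
    rw [Nat.card_zpowers, hx', hcP]
  have hcx : centralizer ({(y : S)} : Set S) = centralizer (P : Set S) := by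
    have h1 : centralizer ((closure {(y : S)} : Subgroup S) : Set S) = centralizer {(y : S)} := centralizer_closure _
    rw [← h1, ← zpowers_eq_closure]
    exact congrArg (fun H : Subgroup S => centralizer (H : Set S)) hz
  rw [hcx, hP, hcP]

theorem j2 {S : Type*} [Group S] (h : Spor.IsoJ2 S) : Cfsg.Agent.H691.TP S [(2, 7), (3, 5), (3, 7), (5, 7)] (50 ^ 2) := by
  have hc := NotCT.Orders.j2 h
  have hfin : Finite S := Nat.finite_of_card_ne_zero (by rw [hc]; norm_num)
  obtain ⟨t, u, Q, v, ρ, D⟩ := Cfsg.Agent.KFacts.J2.Facts.exists_dat_of h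
  obtain ⟨a, b, -, hb, -, hcb, -, -⟩ := Cfsg.Agent.J2Type.ThreeF.main D.F
  have h7 : Fact (Nat.Prime 7) := ⟨by norm_num⟩
  obtain ⟨P⟩ : Nonempty (Sylow 7 S) := inferInstance
  have hP := Cfsg.Agent.J2Type.ThreeF.sylow_seven D.F P
  have hcP : Nat.card (P : Subgroup S) = 7 := by
    have := Cfsg.Agent.J2Type.SylowSeven.card_sylow P 1 86400 (by rw [hc]; norm_num) (by norm_num)
    simpa using this
  obtain ⟨x, hx, hcx⟩ := exists_cent_of_card (by norm_num) hcP hP.1
  refine ⟨3, 7, b, x, by simp, ⟨1, ?_⟩, ⟨1, ?_⟩, ?_⟩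
  · have := pow_orderOf_eq_one b
    rwa [hb] at this
  · have := pow_orderOf_eq_one x
    rwa [hx] at this
  · rw [hcb, hcx, hc]
    norm_num

section He

open Cfsg.Agent.SporadicRecognition.HeldModel
open Cfsg.Agent.KFacts.He.Lv Cfsg.Agent.KFacts.He.TwoACent Cfsg.Agent.KFacts.He.TwoAPlane

/-- `|C(a)| ≥ 161280` -/
theorem card_cent_a [Finite Spor.He] : 161280 ≤ Nat.card (centralizer ({gn .a} : Set Spor.He)) := by
  have hL : L ≤ centralizer ({gn .a} : Set Spor.He) := fun x hx => mem_centralizer_singleton_iff.2 (L_comm_a hx)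
  have hs : s ∈ centralizer ({gn .a} : Set Spor.He) := mem_centralizer_singleton_iff.2 s_comm_a
  have hsL : s ∉ L := by
    intro h
    have h1 : s * v = v * s := mem_V.1 v_mem_V s h
    have h2 := s_conj_v
    apply a_ne_one
    rw [← h2, h1]
    group
  obtain ⟨k, hk⟩ := card_dvd_of_le hL
  rw [CpAut.SmallP.He.card_L] at hk
  have hk1 : k ≠ 1 := by
    rintro rfl
    apply hsL
    have h3 : L = centralizer ({gn .a} : Set Spor.He) :=
      eq_of_le_of_card_ge hL (by rw [hk, CpAut.SmallP.He.card_L])
    rw [h3]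
    exact hs
  have hk0 : k ≠ 0 := by
    rintro rfl
    rw [mul_zero] at hk
    exact Nat.card_pos.ne' hk
  rw [hk]
  calc 161280 = 80640 * 2 := by norm_num
    _ ≤ 80640 * k := Nat.mul_le_mul_left _ (by omega)

/-- the odd order subgroups of `C(a)` are in `L` -/
theorem le_L [Finite Spor.He] {D : Subgroup Spor.He} (hD : ¬ 2 ∣ Nat.card D)
    (h : D ≤ centralizer ({gn .a} : Set Spor.He)) : D ≤ L := by
  intro x hx
  have h1 : orderOf x ∣ Nat.card D := by
    have := orderOf_dvd_natCard (⟨x, hx⟩ : D)
    rwa [Subgroup.orderOf_mk] at this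
  refine CpAut.SmallP.He.mem_L (p := orderOf x) ?_ rfl (mem_centralizer_singleton_iff.1 (h hx))
  rw [← Nat.not_even_iff_odd]
  intro h2
  exact hD (h2.two_dvd.trans h1)

theorem he {S : Type*} [Group S] (h : Spor.IsoHe S) : Cfsg.Agent.H691.TP S [(2, 7), (2, 17), (3, 7), (3, 17), (5, 7), (5, 17), (7, 17)] (50 ^ 2) := by
  have hc := NotCT.Orders.he h
  have hfin : Finite S := Nat.finite_of_card_ne_zero (by rw [hc]; norm_num)
  obtain ⟨e⟩ := h
  have hfin' : Finite Spor.He := Finite.of_equiv S e.toEquiv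
  have hN : Nat.card Spor.He = 2 ^ 10 * 3935925 := by
    rw [← Nat.card_congr e.toEquiv, hc]; norm_num
  refine tp_of_equiv e.symm ?_
  refine tp_two (r := 17) (t := KFacts.He.Bound.z) (c := 21504) (b := 3935925 / (2 + 1)) (by norm_num) hN (by norm_num)
    na_he_model ?_ KFacts.He.Classes.card_centralizer.le ?_ (by simp) (by norm_num)
  · obtain ⟨R, E, E', hs⟩ := CTwoTab.He.sheet_z
    exact two_pow_of_sq hs.zz
  · intro x hx
    rcases cent_or (K := 2) (ks := [1]) (by norm_num) hN (by norm_num) (by norm_num) na_he_model (by decide +kernel) hx with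
      h1 | ⟨k, hk, h1⟩
    · exact h1
    · exfalso
      simp only [List.mem_singleton] at hk
      subst hk
      have h2 := card_D_ge hN (by norm_num) h1 (gn .a)
      have h3 := odd_D na_he_model hx (gn .a)
      have h4 : D (gn .a) x ≤ L := le_L h3 inf_le_left
      have h5 := card_dvd_of_le h4
      rw [CpAut.SmallP.He.card_L] at h5
      have h6 : Nat.card (D (gn .a) x) ∣ 315 := by
        have : Nat.card (D (gn .a) x) ∣ 2 ^ 8 * 315 := by
          refine h5.trans ?_
          norm_num
        exact (Nat.Coprime.dvd_mul_left (Nat.Coprime.pow_right 8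
          ((Nat.Prime.coprime_iff_not_dvd Nat.prime_two).2 h3).symm)).1 this
      have h7 : 158 ≤ Nat.card (D (gn .a) x) := by
        have := card_cent_a
        omega
      have h8 : Nat.card (D (gn .a) x) = 315 := by
        obtain ⟨j, hj⟩ := h6
        have : j < 2 := by
          by_contra hcon
          push Not at hcon
          have := Nat.mul_le_mul h7 hcon
          omega
        interval_cases j <;> omega
      obtain ⟨y, hy⟩ := exists_order (S := D (gn .a) x) (r := 5) (by norm_num) (by rw [h8]; norm_num)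
      obtain ⟨e, he, h9, h10⟩ := PG.Sp.sylow_arith (by norm_num) hy (by rw [h8]; norm_num)
      have h11 : Nat.card (centralizer ({y} : Set (D (gn .a) x))) ∣ 20 := by
        have h12 := CpAut.SmallP.He.card_a5 (x := (y : Spor.He)) (by rw [orderOf_coe]; exact hy)
          (mem_centralizer_singleton_iff.1 (mem_inf.1 y.2).1).symm
        refine dvd_trans ?_ h12
        have h13 : (centralizer ({y} : Set (D (gn .a) x))).map (D (gn .a) x).subtype ≤
            CpAut.SmallP.DD (y : Spor.He) (gn .a) := by
          rintro _ ⟨w, hw, rfl⟩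
          rw [CpAut.SmallP.mem_DD]
          refine ⟨mem_centralizer_singleton_iff.1 (mem_inf.1 w.2).1, ?_⟩
          exact congrArg Subtype.val (mem_centralizer_singleton_iff.1 hw)
        have h14 := card_dvd_of_le h13
        rwa [card_map_of_injective (D (gn .a) x).subtype_injective] at h14
      rw [h8] at h9 h10
      set c := Nat.card (centralizer ({y} : Set (D (gn .a) x)))
      have h15 : c ≤ 20 := Nat.le_of_dvd (by norm_num) h11
      have h16 : e ≤ 4 := Nat.le_of_dvd (by norm_num) he
      have h17 : 5 ∣ c := by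
        have h5 := orderOf_dvd_natCard (⟨y, mem_centralizer_singleton_iff.2 rfl⟩ : centralizer ({y} : Set (D (gn .a) x)))
        rwa [Subgroup.orderOf_mk, hy] at h5
      have h18 : c ∣ 315 := (Dvd.intro _ rfl).trans h9
      interval_cases c <;> first | omega | skip
      all_goals interval_cases e <;> omega

end He

end Cfsg.Agent.H474.TPRows
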