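import Cfsg.Agent.H101.NilpPerm
import Cfsg.Agent.H94.Sp.Base

/-!
# Permutation groups of odd order of degree at most 11 (helper474)

`card_le` : an odd order subgroup of `Perm Ω`, `|Ω| ≤ 11`, has order at most `g |Ω|`, where
`g = 1, 1, 1, 3, 3, 5, 9, 21, 21, 189, 189, 2079` for `|Ω| = 0, …, 11`.
-/

set_option autoImplicit false

namespace Cfsg.Agent.H474.OddPerm

open MulAction Cfsg.Agent.H101.NilpPerm Cfsg.Agent.H94

universe u v

/-- the bound -/
def g : ℕ → ℕ
  | 0 => 1
  | 1 => 1
  | 2 => 1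
  | 3 => 3
  | 4 => 3
  | 5 => 5
  | 6 => 9
  | 7 => 21
  | 8 => 21
  | 9 => 189
  | 10 => 189
  | _ => 2079

/-- an element of prime order `|Ω|` is self-centralizing in `Perm Ω` -/
theorem mem_zpowers {Ω : Type v} [Finite Ω] {p : ℕ} (hp : p.Prime) (hΩ : Nat.card Ω = p) {x c : Equiv.Perm Ω}
    (hx : orderOf x = p) (hc : c * x = x * c) : c ∈ Subgroup.zpowers x := by
  have hx1 : x ≠ 1 := by
    rintro rfl
    rw [orderOf_one] at hx
    exact hp.one_lt.ne hx
  obtain ⟨a, ha⟩ : ∃ a, x a ≠ a := by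
    by_contra h
    push Not at h
    exact hx1 (Equiv.ext h)
  have hcard : Nat.card (orbit (Subgroup.zpowers x) a) ∣ p := by
    rw [Nat.card_congr (MulAction.orbitEquivQuotientStabilizer (Subgroup.zpowers x) a), ← hx, ← Nat.card_zpowers x]
    exact Subgroup.index_dvd_card _
  have horb : ∀ b : Ω, b ∈ orbit (Subgroup.zpowers x) a := by
    rcases (Nat.dvd_prime hp).1 hcard with h | h
    · exfalso
      have h1 : (⟨x a, ⟨⟨x, Subgroup.mem_zpowers x⟩, rfl⟩⟩ : orbit (Subgroup.zpowers x) a) = ⟨a, mem_orbit_self a⟩ :=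
        (Nat.card_eq_one_iff_unique.1 h).1.elim _ _
      exact ha (congrArg Subtype.val h1)
    · have h1 : (orbit (Subgroup.zpowers x) a) = Set.univ := by
        apply Set.eq_of_subset_of_ncard_le (Set.subset_univ _) _ (Set.toFinite _)
        rw [Set.ncard_univ, ← Nat.card_coe_set_eq, h, hΩ]
      intro b
      rw [h1]
      exact Set.mem_univ b
  obtain ⟨⟨y, hy⟩, hya⟩ := horb (c a)
  obtain ⟨k, rfl⟩ := Subgroup.mem_zpowers_iff.1 hy
  have hya' : (x ^ k) a = c a := hya
  refine Subgroup.mem_zpowers_iff.2 ⟨k, ?_⟩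
  ext b
  obtain ⟨⟨z, hz⟩, hzb⟩ := horb b
  obtain ⟨j, rfl⟩ := Subgroup.mem_zpowers_iff.1 hz
  have hzb' : (x ^ j) a = b := hzb
  have hcj : c * x ^ j = x ^ j * c := ((show Commute c x from hc).zpow_right j).eq
  calc (x ^ k) b = (x ^ k * x ^ j) a := by rw [← hzb']; rfl
    _ = (x ^ j * x ^ k) a := by rw [← zpow_add, ← zpow_add, add_comm]
    _ = (x ^ j) (c a) := by rw [← hya']; rfl
    _ = (c * x ^ j) a := by rw [hcj]; rfl
    _ = c b := by rw [← hzb']; rfl

/-- odd transitive groups of degree 5 -/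
theorem arith5 {q e : ℕ} (h1 : q ≤ 15) (h2 : 5 ∣ q) (h3 : ¬ 2 ∣ q) (he : e ∣ 4) (h4 : 5 * e ∣ q)
    (h5 : q / (5 * e) % 5 = 1) : q ≤ 5 := by
  have : e ≤ 4 := Nat.le_of_dvd (by norm_num) he
  interval_cases q <;> first | omega | (interval_cases e <;> omega)

theorem arith7 {q e : ℕ} (h1 : q ≤ 63) (h2 : 7 ∣ q) (h3 : ¬ 2 ∣ q) (he : e ∣ 6) (h4 : 7 * e ∣ q)
    (h5 : q / (7 * e) % 7 = 1) : q ≤ 21 := by
  have : e ≤ 6 := Nat.le_of_dvd (by norm_num) he
  interval_cases q <;> first | omega | (interval_cases e <;> omega)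

theorem card_prime {Ω : Type v} [Finite Ω] {p : ℕ} (hp : p.Prime) (hΩ : Nat.card Ω = p) (hpp : ¬ p * p ∣ p.factorial)
    (Q : Subgroup (Equiv.Perm Ω)) (hpQ : p ∣ Nat.card Q) :
    ∃ e, e ∣ p - 1 ∧ p * e ∣ Nat.card Q ∧ Nat.card Q / (p * e) % p = 1 := by
  have hpf : Fact p.Prime := ⟨hp⟩
  obtain ⟨x, hx⟩ := exists_prime_orderOf_dvd_card' (G := Q) p hpQ
  have h1 : ¬ p * p ∣ Nat.card Q := by
    intro h
    apply hpp
    have h2 := h.trans (Subgroup.card_subgroup_dvd_card Q)
    rwa [Nat.card_perm, hΩ] at h2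
  obtain ⟨e, he, h2, h3⟩ := PG.Sp.sylow_arith hp hx h1
  have hc : Nat.card (Subgroup.centralizer ({x} : Set Q)) = p := by
    have hx' : orderOf (x : Equiv.Perm Ω) = p := by rw [Subgroup.orderOf_coe]; exact hx
    have h4 : Subgroup.centralizer ({x} : Set Q) ≤ Subgroup.zpowers x := by
      intro c hc
      have h5 := mem_zpowers hp hΩ hx' (congrArg Subtype.val (Subgroup.mem_centralizer_singleton_iff.1 hc))
      obtain ⟨k, hk⟩ := Subgroup.mem_zpowers_iff.1 h5
      exact Subgroup.mem_zpowers_iff.2 ⟨k, Subtype.ext hk⟩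
    have h5 := Subgroup.card_dvd_of_le h4
    rw [Nat.card_zpowers, hx] at h5
    have h6 : p ∣ Nat.card (Subgroup.centralizer ({x} : Set Q)) := by
      have h7 := orderOf_dvd_natCard (⟨x, Subgroup.mem_centralizer_singleton_iff.2 rfl⟩ :
        Subgroup.centralizer ({x} : Set Q))
      rwa [Subgroup.orderOf_mk, hx] at h7
    exact Nat.dvd_antisymm h5 h6
  rw [hc] at h2 h3
  exact ⟨e, he, h2, by rw [h3]; exact Nat.mod_eq_of_lt hp.one_lt⟩

theorem index_ker_dvd (N : Type u) [Group N] [Finite N] (Ω : Type v) [Finite Ω] [MulAction N Ω] :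
    (MulAction.toPermHom N Ω).ker.index ∣ Nat.card N := Subgroup.index_dvd_card _

/-- the transitive step -/
theorem index_ker_trans (N : Type u) [Group N] [Finite N] (Ω : Type v) [Finite Ω] [MulAction N Ω] (a : Ω)
    (h : Nat.card (orb N a) = Nat.card Ω) :
    ∃ k, (MulAction.toPermHom N Ω).ker.index = Nat.card Ω * k ∧
      k ≤ (MulAction.toPermHom (stabilizer N a) (orb (stabilizer N a) a)).ker.index *
        (MulAction.toPermHom (stabilizer N a) ((orb (stabilizer N a) a)ᶜ : SubMulAction (stabilizer N a) Ω)).ker.index := by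
  have hle : (MulAction.toPermHom N Ω).ker ≤ stabilizer N a := by
    intro x hx
    rw [mem_stabilizer_iff]
    have := congrArg (fun f : Equiv.Perm Ω => f a) (MonoidHom.mem_ker.1 hx)
    exact this
  have h1 := Subgroup.relIndex_mul_index hle
  have h2 : (stabilizer N a).index = Nat.card Ω := by
    rw [← h, card_orb, Nat.card_congr (MulAction.orbitEquivQuotientStabilizer N a)]
    rfl
  refine ⟨(MulAction.toPermHom N Ω).ker.relIndex (stabilizer N a), ?_, ?_⟩
  · rw [← h1, h2, mul_comm]
  · refine le_trans (le_of_eq ?_) (index_ker_le_mul (orb (stabilizer N a) a))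
    rw [Subgroup.relIndex]
    rfl

theorem index_ker_le : ∀ (n : ℕ), n ≤ 11 → ∀ (N : Type u) [Group N] [Finite N], ¬ 2 ∣ Nat.card N →
    ∀ (Ω : Type v) [Finite Ω] [MulAction N Ω], Nat.card Ω = n → (MulAction.toPermHom N Ω).ker.index ≤ g n := by
  intro n
  induction n using Nat.strong_induction_on with
  | _ n ih =>
    intro hn N _ _ hodd Ω _ _ hcard
    have hfac : (MulAction.toPermHom N Ω).ker.index ∣ n.factorial := by
      rw [Subgroup.index_ker]
      refine (Subgroup.card_subgroup_dvd_card _).trans ?_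
      rw [Nat.card_perm, hcard]
    by_cases hn1 : n ≤ 1
    · have h1 : n.factorial = 1 := by interval_cases n <;> rfl
      have h2 : g n = 1 := by interval_cases n <;> rfl
      rw [h1] at hfac
      rw [h2, Nat.dvd_one.1 hfac]
    push Not at hn1
    have hne : Nonempty Ω := (Nat.card_pos_iff.1 (by rw [hcard]; omega)).1
    obtain ⟨a⟩ := hne
    have hadd := card_add_card_compl (orb N a)
    have hpos : 0 < Nat.card (orb N a) := Nat.card_pos_iff.2 ⟨⟨⟨a, mem_orbit_self a⟩⟩, inferInstance⟩
    by_cases hlt : Nat.card (orb N a) < n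
    · have h1 := ih _ hlt (by omega) N hodd (orb N a) rfl
      have h2 := ih (Nat.card ((orb N a)ᶜ : SubMulAction N Ω)) (by omega) (by omega) N hodd
        ((orb N a)ᶜ : SubMulAction N Ω) rfl
      have he : Nat.card ((orb N a)ᶜ : SubMulAction N Ω) = n - Nat.card (orb N a) := by omega
      rw [he] at h2
      refine (index_ker_le_mul (orb N a)).trans ((Nat.mul_le_mul h1 h2).trans ?_)
      generalize Nat.card (orb N a) = m at hpos hlt
      interval_cases n <;> interval_cases m <;> decide
    · have heq : Nat.card (orb N a) = Nat.card Ω := by omega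
      obtain ⟨k, hk, hk2⟩ := index_ker_trans N Ω a heq
      have hoddS : ¬ 2 ∣ Nat.card (stabilizer N a) := fun h => hodd (h.trans (Subgroup.card_subgroup_dvd_card _))
      have hS : Nat.card (orb (stabilizer N a) a) = 1 := by
        rw [card_orb]
        have h1 : orbit (stabilizer N a) a = {a} := by
          ext b
          constructor
          · rintro ⟨x, rfl⟩
            exact x.2
          · rintro rfl
            exact mem_orbit_self _
        rw [h1, Nat.card_unique]
      have hadd' := card_add_card_compl (orb (stabilizer N a) a)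
      have h1 := ih 1 (by omega) (by omega) (stabilizer N a) hoddS (orb (stabilizer N a) a) hS
      have h2 := ih (n - 1) (by omega) (by omega) (stabilizer N a) hoddS
        ((orb (stabilizer N a) a)ᶜ : SubMulAction (stabilizer N a) Ω) (by omega)
      have h3 : k ≤ g (n - 1) := by
        refine hk2.trans ((Nat.mul_le_mul h1 h2).trans ?_)
        rw [show g 1 = 1 from rfl, one_mul]
      have hoddk : ¬ 2 ∣ (MulAction.toPermHom N Ω).ker.index := fun h => hodd (h.trans (index_ker_dvd N Ω))
      rw [hcard] at hk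
      have hle : (MulAction.toPermHom N Ω).ker.index ≤ n * g (n - 1) := by
        rw [hk]; exact Nat.mul_le_mul_left n h3
      have hn2 : ¬ 2 ∣ n := fun h => hoddk (by rw [hk]; exact Dvd.dvd.mul_right h k)
      have hrng : (MulAction.toPermHom N Ω).ker.index = Nat.card (MulAction.toPermHom N Ω).range :=
        Subgroup.index_ker _
      have hdvd : n ∣ Nat.card (MulAction.toPermHom N Ω).range := by rw [← hrng, hk]; exact Dvd.intro _ rfl
      interval_cases n
      · omega
      · exact hle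
      · omega
      · obtain ⟨e, he, h5, h6⟩ := card_prime (by norm_num) hcard (by decide) _ hdvd
        rw [← hrng] at h5 h6 hdvd
        exact arith5 hle hdvd hoddk he h5 h6
      · omega
      · obtain ⟨e, he, h5, h6⟩ := card_prime (by norm_num) hcard (by decide) _ hdvd
        rw [← hrng] at h5 h6 hdvd
        exact arith7 hle hdvd hoddk he h5 h6
      · omega
      · exact hle
      · omega
      · exact hle

/-- **odd order subgroups of `Perm Ω`, `|Ω| ≤ 11`** -/
theorem card_le {Ω : Type v} [Finite Ω] (hn : Nat.card Ω ≤ 11) (Q : Subgroup (Equiv.Perm Ω)) (hQ : ¬ 2 ∣ Nat.card Q) :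
    Nat.card Q ≤ g (Nat.card Ω) := by
  rw [← index_ker_subgroup Q]
  exact index_ker_le _ hn Q hQ Ω rfl

/-- a group of odd order with a homomorphism to `Perm Ω` with kernel of order at most 2 -/
theorem card_le_of_hom {X : Type u} [Group X] [Finite X] (hX : ¬ 2 ∣ Nat.card X) {Ω : Type v} [Finite Ω]
    (hn : Nat.card Ω ≤ 11) (f : X →* Equiv.Perm Ω) (hf : Function.Injective f) : Nat.card X ≤ g (Nat.card Ω) := by
  have h1 : Nat.card f.range = Nat.card X := (Nat.card_congr (MonoidHom.ofInjective hf).toEquiv).symm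
  rw [← h1]
  exact card_le hn f.range (by rw [h1]; exact hX)

end Cfsg.Agent.H474.OddPerm
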