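import Cfsg.Agent.H474.TP.Inter
import Cfsg.Agent.H474.TP.OddPerm
import Cfsg.Agent.H393.Iso.McLLy
import Cfsg.Agent.NotCT.Orders

/-!
# `TP` rows: `McL`, `Ly` (helper474)
-/

set_option autoImplicit false

namespace Cfsg.Agent.H474.TPRows

open Subgroup Cfsg Equiv Cfsg.Agent.H393.Iso Cfsg.Agent.H691 Cfsg.Agent.H94
open Cfsg.Agent.SporRec.TwoAn Cfsg.Agent.TypeM.Two

theorem card_cover {n : ℕ} (hn : 2 ≤ n) {C : Type*} [Group C] [Finite C] (K : Cover (Fin n) C) :
    Nat.card C = n.factorial := by
  have h1 := Subgroup.card_mul_index K.π.ker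
  have h2 : K.π.ker.index = Nat.card (alternatingGroup (Fin n)) := by
    rw [Subgroup.index_ker, K.range_eq]
  have h3 : Nat.card K.π.ker = 2 := by
    have h4 : K.π.ker = zpowers K.z := by
      ext x
      rw [MonoidHom.mem_ker, K.ker]
      constructor
      · rintro (rfl | rfl)
        · exact one_mem _
        · exact mem_zpowers _
      · rintro ⟨k, rfl⟩
        rcases Int.even_or_odd' k with ⟨j, rfl | rfl⟩
        · left
          change K.z ^ (2 * j) = 1
          rw [zpow_mul, zpow_two, K.z_mul_z, one_zpow]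
        · right
          change K.z ^ (2 * j + 1) = K.z
          rw [zpow_add, zpow_mul, zpow_two, K.z_mul_z, one_zpow, one_mul, zpow_one]
    rw [h4, Nat.card_zpowers]
    exact orderOf_eq_prime (by rw [pow_two]; exact K.z_mul_z) K.z_ne
  have hnt : Nontrivial (Fin n) := Fin.nontrivial_iff_two_le.2 hn
  have h5 : 2 * Nat.card (alternatingGroup (Fin n)) = n.factorial := by
    have := two_mul_nat_card_alternatingGroup (α := Fin n)
    rw [this, Nat.card_perm, Nat.card_eq_fintype_card, Fintype.card_fin]
  rw [← h1, h2, h3, h5]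

/-- a subgroup of odd order of `C(t) = 2·A_n`, `n ≤ 11` -/
theorem card_le_mt {G : Type*} [Group G] [Finite G] {n : ℕ} (hn : n ≤ 11) (L : MT n G) {D : Subgroup G}
    (hD : ¬ 2 ∣ Nat.card D) (hDt : D ≤ centralizer ({L.t} : Set G)) : Nat.card D ≤ OddPerm.g n := by
  have h1 := OddPerm.card_le_of_hom (X := D) hD (Ω := Fin n) (by simpa using hn)
    (L.K.π.comp (inclusion hDt)) (by
      rw [injective_iff_map_eq_one]
      intro x hx
      rcases (L.K.ker _).1 hx with h | h
      · exact inclusion_injective hDt (by rw [h, map_one])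
      · exfalso
        apply hD
        have h2 : orderOf x = 2 := by
          rw [← orderOf_injective _ (inclusion_injective hDt), h]
          exact orderOf_eq_prime (by rw [pow_two]; exact L.K.z_mul_z) L.K.z_ne
        rw [← h2]
        exact orderOf_dvd_natCard x)
  simpa using h1

theorem mcl {S : Type*} [Group S] (h : Spor.IsoMcL S) : Cfsg.Agent.H691.TP S [(2, 7), (2, 11), (3, 5), (3, 7), (3, 11), (5, 7), (5, 11), (7, 11)] (50 ^ 2) := by
  have hc := NotCT.Orders.mcl h
  have hfin : Finite S := Nat.finite_of_card_ne_zero (by rw [hc]; norm_num)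
  have hN : Nat.card S = 2 ^ 7 * 7016625 := by
    rw [hc]; norm_num
  have na := na_mcl h
  obtain ⟨-, -, -, ⟨L⟩⟩ := Cfsg.Agent.TypeM.FactsMcL.facts h
  have hct : Nat.card (centralizer ({L.t} : Set S)) = 40320 := by
    rw [card_cover (by norm_num) L.K]; rfl
  refine tp_two (r := 11) (t := L.t) (c := 40320) (b := 7016625 / (22 + 1)) (by norm_num) hN (by norm_num)
    na (two_pow_of_sq L.t_mul_t) hct.le ?_ (by simp) (by norm_num)
  intro x hx
  rcases cent_or (K := 22) (ks := [5]) (by norm_num) hN (by norm_num) (by norm_num) na (by decide +kernel) hx with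
    h1 | ⟨k, hk, h1⟩
  · exact h1
  · exfalso
    have h2 := card_D_ge hN (by norm_num) h1 L.t
    have h3 := card_le_mt (by norm_num) L (odd_D na hx L.t) inf_le_left
    simp only [List.mem_singleton] at hk
    subst hk
    rw [hct] at h2
    rw [show OddPerm.g 8 = 21 from rfl] at h3
    omega

theorem ly {S : Type*} [Group S] (h : Spor.IsoLy S) : Cfsg.Agent.H691.TP S [(2, 11), (2, 37), (2, 67), (3, 31), (3, 37), (3, 67), (5, 7), (5, 11), (5, 31), (5, 37), (5, 67), (7, 11), (7, 31), (7, 37), (7, 67), (11, 31), (11, 37), (11, 67), (31, 37), (31, 67), (37, 67)] (126 ^ 2) := by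
  have hc := NotCT.Orders.ly h
  have hfin : Finite S := Nat.finite_of_card_ne_zero (by rw [hc]; norm_num)
  have hN : Nat.card S = 2 ^ 8 * 202207730484375 := by
    rw [hc]; norm_num
  have na := na_ly h
  obtain ⟨-, -, -, ⟨L⟩⟩ := Cfsg.Agent.TypeM.FactsLy.facts h
  have hct : Nat.card (centralizer ({L.t} : Set S)) = 39916800 := by
    rw [card_cover (by norm_num) L.K]; rfl
  refine tp_two (r := 67) (t := L.t) (c := 39916800) (b := 202207730484375 / (62 + 1)) (by norm_num) hN (by norm_num)
    na (two_pow_of_sq L.t_mul_t) hct.le ?_ (by simp) (by norm_num)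
  intro x hx
  rcases cent_or (K := 62) (ks := [11, 33]) (by norm_num) hN (by norm_num) (by norm_num) na (by decide +kernel) hx with
    h1 | ⟨k, hk, h1⟩
  · exact h1
  · exfalso
    have h2 := card_D_ge hN (by norm_num) h1 L.t
    have h3 := card_le_mt (by norm_num) L (odd_D na hx L.t) inf_le_left
    rw [hct] at h2
    rw [show OddPerm.g 11 = 2079 from rfl] at h3
    simp only [List.mem_cons, List.not_mem_nil, or_false] at hk
    rcases hk with rfl | rfl <;> omega

end Cfsg.Agent.H474.TPRows
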