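import Cfsg.Agent.H474.TP.RowsA
import Cfsg.Agent.H474.TP.RowsB
import Cfsg.Agent.H474.TP.RowsC
import Cfsg.Agent.H474.TP.RowsD
import Cfsg.Agent.H474.TP.RowsE
import Cfsg.Agent.H474.TP.RowTits
import Cfsg.Agent.H474.TP.RowFi22
import Cfsg.Agent.H474.TP.RowFi24

/-!
# All the `TP` rows (helper474): `Cfsg.Agent.H474.TPRows.{j2, j3, j4, hs, mcl, co1, co2, co3, suz, tits, he, ru, on, ly,
fi22, fi23, fi24, hn, th, b, m}`
-/
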