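import Cfsg.Agent.H691.Defs
import Cfsg.Agent.H393.Iso.Base
import Cfsg.Agent.H94.Sp.Base

/-!
# Two elements of prime power order with small centralizers: tools (helper474, for helper691's `TP`)

* `card_cent_dvd` : if no element of order `r` commutes with an involution, `|C(x)|` divides the odd part of `|S|`;
* `cent_le` : the upper bound for `|C(x)|` from Sylow arithmetic, checked by a Boolean test;
* `tp_two`, `tp_two'`, `tp_pair` : the predicate `TP`.
-/

set_option autoImplicit false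

namespace Cfsg.Agent.H474.TPRows

open Subgroup Cfsg.Agent.H393.Iso Cfsg.Agent.H691 Cfsg.Agent.H94

universe u

variable {S : Type u} [Group S]

theorem exists_order [Finite S] {r : ℕ} (hr : r.Prime) (h : r ∣ Nat.card S) : ∃ x : S, orderOf x = r := by
  have : Fact r.Prime := ⟨hr⟩
  exact exists_prime_orderOf_dvd_card' r h

/-- `|C(x)|` is odd -/
theorem odd_cent [Finite S] {r : ℕ} (na : NA r S) {x : S} (hx : orderOf x = r) :
    ¬ 2 ∣ Nat.card (centralizer ({x} : Set S)) := by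
  intro h
  have : Fact (Nat.Prime 2) := ⟨Nat.prime_two⟩
  obtain ⟨t, ht⟩ := exists_prime_orderOf_dvd_card' 2 h
  refine na x t hx ?_ ?_
  · rw [orderOf_coe]; exact ht
  · exact (mem_cent.1 t.2).symm

theorem card_cent_dvd [Finite S] {r a M : ℕ} (hN : Nat.card S = 2 ^ a * M) (na : NA r S) {x : S}
    (hx : orderOf x = r) : Nat.card (centralizer ({x} : Set S)) ∣ M := by
  have h1 : Nat.card (centralizer ({x} : Set S)) ∣ 2 ^ a * M := hN ▸ card_subgroup_dvd_card _
  exact (Nat.Coprime.dvd_mul_left (Nat.Coprime.pow_right a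
    ((Nat.Prime.coprime_iff_not_dvd Nat.prime_two).2 (odd_cent na hx)).symm)).1 h1

/-- **`TP` from an isolated prime and an involution** -/
theorem tp_two [Finite S] {L : List (ℕ × ℕ)} {B r a M c : ℕ} (hr : r.Prime) (hN : Nat.card S = 2 ^ a * M)
    (hrN : r ∣ 2 ^ a * M) (na : NA r S) {t : S} (ht : ∃ k : ℕ, t ^ 2 ^ k = 1)
    (hc : Nat.card (centralizer ({t} : Set S)) ≤ c) {b : ℕ}
    (hb : ∀ x : S, orderOf x = r → Nat.card (centralizer ({x} : Set S)) ≤ b)
    (hL : (2, r) ∈ L) (hlt : (c + b) * B < 2 ^ a * M) : TP S L B := by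
  obtain ⟨x, hx⟩ := exists_order hr (hN ▸ hrN)
  refine ⟨2, r, t, x, hL, ht, ⟨1, by rw [pow_one, ← hx, pow_orderOf_eq_one]⟩, ?_⟩
  rw [hN]
  exact lt_of_le_of_lt (Nat.mul_le_mul_right B (Nat.add_le_add hc (hb x hx))) hlt

/-- the simplest form -/
theorem tp_two' [Finite S] {L : List (ℕ × ℕ)} {B r a M c : ℕ} (hr : r.Prime) (hN : Nat.card S = 2 ^ a * M)
    (hM : 0 < M) (hrN : r ∣ 2 ^ a * M) (na : NA r S) {t : S} (ht : ∃ k : ℕ, t ^ 2 ^ k = 1)
    (hc : Nat.card (centralizer ({t} : Set S)) ≤ c) (hL : (2, r) ∈ L) (hlt : (c + M) * B < 2 ^ a * M) :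
    TP S L B :=
  tp_two hr hN hrN na ht hc (fun _ hx => Nat.le_of_dvd hM (card_cent_dvd hN na hx)) hL hlt

/-- two isolated primes -/
theorem tp_pair [Finite S] {L : List (ℕ × ℕ)} {B r r' a M : ℕ} (hr : r.Prime) (hr' : r'.Prime)
    (hN : Nat.card S = 2 ^ a * M) (hM : 0 < M)
    (hrN : r ∣ 2 ^ a * M) (hrN' : r' ∣ 2 ^ a * M) (na : NA r S) (na' : NA r' S) (hL : (r, r') ∈ L)
    (hlt : (M + M) * B < 2 ^ a * M) : TP S L B := by
  obtain ⟨x, hx⟩ := exists_order hr (hN ▸ hrN)
  obtain ⟨x', hx'⟩ := exists_order hr' (hN ▸ hrN')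
  refine ⟨r, r', x, x', hL, ⟨1, by rw [pow_one, ← hx, pow_orderOf_eq_one]⟩,
    ⟨1, by rw [pow_one, ← hx', pow_orderOf_eq_one]⟩, ?_⟩
  rw [hN]
  exact lt_of_le_of_lt (Nat.mul_le_mul_right B (Nat.add_le_add
    (Nat.le_of_dvd hM (card_cent_dvd hN na hx)) (Nat.le_of_dvd hM (card_cent_dvd hN na' hx')))) hlt

/-- an element of 2-power order from its order -/
theorem two_pow_of_orderOf {t : S} (h : orderOf t = 2) : ∃ k : ℕ, t ^ 2 ^ k = 1 :=
  ⟨1, by rw [pow_one, ← h, pow_orderOf_eq_one]⟩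

theorem two_pow_of_sq {X : Type*} [Group X] {t : X} (h : t * t = 1) : ∃ k : ℕ, t ^ 2 ^ k = 1 :=
  ⟨1, by rw [pow_one, pow_two]; exact h⟩

/-- the centralizer order `M / k` passes the Sylow arithmetic -/
def bad (N M r k : ℕ) : Bool :=
  Nat.beq (M % k) 0 && Nat.beq ((M / k) % r) 0 &&
    (List.range r).any fun e => !(Nat.beq e 0) && Nat.beq ((r - 1) % e) 0 && Nat.beq (N % (M / k * e)) 0 &&
      Nat.beq (N / (M / k * e) % r) 1

/-- no `k ≤ K` is possible -/
def chk (N M r K : ℕ) : Bool := (List.range K).all fun k => !(bad N M r (k + 1))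

theorem cent_le [Finite S] {r a M K : ℕ} (hr : r.Prime) (hN : Nat.card S = 2 ^ a * M) (hM : 0 < M)
    (hrr : ¬ r * r ∣ 2 ^ a * M) (na : NA r S) (hc : chk (2 ^ a * M) M r K = true) {x : S} (hx : orderOf x = r) :
    Nat.card (centralizer ({x} : Set S)) ≤ M / (K + 1) := by
  obtain ⟨e, he, h1, h2⟩ := PG.Sp.sylow_arith hr hx (hN ▸ hrr)
  obtain ⟨k, hk⟩ := card_cent_dvd hN na hx
  set c := Nat.card (centralizer ({x} : Set S)) with hcdef
  have hc0 : 0 < c := Nat.card_pos
  have hk0 : 0 < k := Nat.pos_of_ne_zero (by rintro rfl; omega)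
  by_cases hkK : K < k
  · rw [Nat.le_div_iff_mul_le (Nat.succ_pos K), hk]
    exact Nat.mul_le_mul_left c hkK
  · exfalso
    push Not at hkK
    rw [chk, List.all_eq_true] at hc
    have h3 := hc (k - 1) (List.mem_range.2 (by omega))
    rw [Nat.sub_add_cancel hk0] at h3
    have hMk : M / k = c := by rw [hk]; exact Nat.mul_div_cancel _ hk0
    have he0 : 0 < e := Nat.pos_of_ne_zero (by
      rintro rfl
      rw [zero_dvd_iff] at he
      have := hr.two_le
      omega)
    have her : e < r := lt_of_le_of_lt (Nat.le_of_dvd (by have := hr.two_le; omega) he) (by have := hr.two_le; omega)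
    have hbad : bad (2 ^ a * M) M r k = true := by
      unfold bad
      rw [hMk, Bool.and_eq_true, Bool.and_eq_true, List.any_eq_true]
      refine ⟨⟨?_, ?_⟩, e, List.mem_range.2 her, ?_⟩
      · rw [Nat.beq_eq]; exact Nat.mod_eq_zero_of_dvd ⟨c, by rw [hk, mul_comm]⟩
      · rw [Nat.beq_eq]
        apply Nat.mod_eq_zero_of_dvd
        have h5 := orderOf_dvd_natCard (⟨x, mem_cent.2 rfl⟩ : centralizer ({x} : Set S))
        rwa [Subgroup.orderOf_mk, hx] at h5
      · rw [Bool.and_eq_true, Bool.and_eq_true, Bool.and_eq_true]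
        rw [hN] at h1 h2
        refine ⟨⟨⟨?_, ?_⟩, ?_⟩, ?_⟩
        · rw [Bool.not_eq_true', ← Bool.not_eq_true, Nat.beq_eq]; omega
        · rw [Nat.beq_eq]; exact Nat.mod_eq_zero_of_dvd he
        · rw [Nat.beq_eq]; exact Nat.mod_eq_zero_of_dvd h1
        · rw [Nat.beq_eq, h2]; exact Nat.mod_eq_of_lt hr.one_lt
    rw [hbad] at h3
    exact absurd h3 (by decide)

theorem card_cent_map {X : Type*} {Y : Type*} [Group X] [Group Y] (e : X ≃* Y) (z : X) :
    Nat.card (centralizer ({e z} : Set Y)) = Nat.card (centralizer ({z} : Set X)) := by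
  have h1 : centralizer ({e z} : Set Y) = (centralizer ({z} : Set X)).map e.toMonoidHom := by
    ext y
    rw [mem_map_equiv, mem_centralizer_singleton_iff, mem_centralizer_singleton_iff]
    constructor
    · intro h
      apply e.injective
      rw [map_mul, map_mul, e.apply_symm_apply]
      exact h
    · intro h
      have h2 := congrArg e h
      rwa [map_mul, map_mul, e.apply_symm_apply] at h2
  rw [h1]
  exact (Nat.card_congr ((centralizer ({z} : Set X)).equivMapOfInjective _ e.injective).toEquiv).symm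

theorem card_cent_conj {X : Type*} [Group X] {g a b : X} (h : g * a * g⁻¹ = b) :
    Nat.card (centralizer ({b} : Set X)) = Nat.card (centralizer ({a} : Set X)) := by
  rw [← h]
  exact card_cent_map (MulAut.conj g) a

theorem card_cent_isConj {X : Type*} [Group X] {a b : X} (h : IsConj a b) :
    Nat.card (centralizer ({b} : Set X)) = Nat.card (centralizer ({a} : Set X)) := by
  obtain ⟨g, hg⟩ := isConj_iff.1 h
  exact card_cent_conj hg

/-- transport -/
theorem tp_of_equiv {X : Type*} {Y : Type*} [Group X] [Group Y] (e : X ≃* Y) {L : List (ℕ × ℕ)} {B : ℕ}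
    (h : TP X L B) : TP Y L B := by
  obtain ⟨l, l', x, x', hL, ⟨a, ha⟩, ⟨b, hb⟩, hlt⟩ := h
  refine ⟨l, l', e x, e x', hL, ⟨a, by rw [← map_pow, ha, map_one]⟩, ⟨b, by rw [← map_pow, hb, map_one]⟩, ?_⟩
  rw [card_cent_map e, card_cent_map e, ← Nat.card_congr e.toEquiv]
  exact hlt

end Cfsg.Agent.H474.TPRows
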