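import Cfsg.Agent.H474.TP.Base

/-!
# The intersection with the centralizer of an involution (helper474)

If `|S : C(x)| = 2 ^ a * k`, then `D = C(t) ∩ C(x)` satisfies `|C(t)| ≤ |D| * (2 ^ a * k)`; it has odd order if the
order of `x` is an isolated prime.
-/

set_option autoImplicit false

namespace Cfsg.Agent.H474.TPRows

open Subgroup Cfsg.Agent.H393.Iso Cfsg.Agent.H691 Cfsg.Agent.H94

universe u

variable {S : Type u} [Group S]

theorem card_le_inf_mul_index [Finite S] (H K : Subgroup S) :
    Nat.card H ≤ Nat.card (H ⊓ K : Subgroup S) * K.index := by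
  have h1 : Nat.card (K.subgroupOf H) * (K.subgroupOf H).index = Nat.card H := card_mul_index _
  have h2 : Nat.card (K.subgroupOf H) = Nat.card (H ⊓ K : Subgroup S) := by
    rw [← inf_subgroupOf_left, Nat.card_congr (subgroupOfEquivOfLe inf_le_left).toEquiv]
  have h3 : (K.subgroupOf H).index ≤ K.index := by
    have := relIndex_le_of_le_right (H := K) (K := H) (L := ⊤) le_top (by
      rw [relIndex_top_right]; exact index_ne_zero_of_finite)
    rwa [relIndex_top_right] at this
  rw [← h1, h2]
  exact Nat.mul_le_mul_left _ h3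

/-- `C(t) ∩ C(x)` -/
abbrev D (t x : S) : Subgroup S := centralizer ({t} : Set S) ⊓ centralizer ({x} : Set S)

theorem odd_D [Finite S] {r : ℕ} (na : NA r S) {x : S} (hx : orderOf x = r) (t : S) :
    ¬ 2 ∣ Nat.card (D t x) :=
  fun h => odd_cent na hx (h.trans (card_dvd_of_le inf_le_right))

theorem card_D_ge [Finite S] {a M k : ℕ} (hN : Nat.card S = 2 ^ a * M) (hM : 0 < M) {x : S}
    (hk : Nat.card (centralizer ({x} : Set S)) * k = M) (t : S) :
    Nat.card (centralizer ({t} : Set S)) ≤ Nat.card (D t x) * (2 ^ a * k) := by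
  have h1 := card_mul_index (centralizer ({x} : Set S))
  have h2 : (centralizer ({x} : Set S)).index = 2 ^ a * k := by
    have hc : 0 < Nat.card (centralizer ({x} : Set S)) := Nat.card_pos
    apply Nat.eq_of_mul_eq_mul_left hc
    rw [h1, hN, ← hk]
    ring
  have h3 := card_le_inf_mul_index (centralizer ({t} : Set S)) (centralizer ({x} : Set S))
  rwa [h2] at h3

/-- all `k ≤ K` are excluded by the Sylow arithmetic except the members of `ks` -/
def chkE (N M r K : ℕ) (ks : List ℕ) : Bool :=
  (List.range K).all fun k => !(bad N M r (k + 1)) || ks.any fun j => Nat.beq j (k + 1)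

theorem cent_or [Finite S] {r a M K : ℕ} {ks : List ℕ} (hr : r.Prime) (hN : Nat.card S = 2 ^ a * M) (hM : 0 < M)
    (hrr : ¬ r * r ∣ 2 ^ a * M) (na : NA r S) (hc : chkE (2 ^ a * M) M r K ks = true) {x : S}
    (hx : orderOf x = r) : Nat.card (centralizer ({x} : Set S)) ≤ M / (K + 1) ∨
      ∃ k ∈ ks, Nat.card (centralizer ({x} : Set S)) * k = M := by
  obtain ⟨e, he, h1, h2⟩ := PG.Sp.sylow_arith hr hx (hN ▸ hrr)
  obtain ⟨k, hk⟩ := card_cent_dvd hN na hx
  set c := Nat.card (centralizer ({x} : Set S)) with hcdef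
  have hc0 : 0 < c := Nat.card_pos
  have hk0 : 0 < k := Nat.pos_of_ne_zero (by rintro rfl; omega)
  by_cases hkK : K < k
  · left
    rw [Nat.le_div_iff_mul_le (Nat.succ_pos K), hk]
    exact Nat.mul_le_mul_left c hkK
  · right
    push Not at hkK
    rw [chkE, List.all_eq_true] at hc
    have h3 := hc (k - 1) (List.mem_range.2 (by omega))
    rw [Nat.sub_add_cancel hk0] at h3
    have hMk : M / k = c := by rw [hk]; exact Nat.mul_div_cancel _ hk0
    have he0 : 0 < e := Nat.pos_of_ne_zero (by
      rintro rfl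
      rw [zero_dvd_iff] at he
      have := hr.two_le
      omega)
    have her : e < r := lt_of_le_of_lt (Nat.le_of_dvd (by have := hr.two_le; omega) he) (by have := hr.two_le; omega)
    have hbad : bad (2 ^ a * M) M r k = true := by
      unfold bad
      rw [hMk, Bool.and_eq_true, Bool.and_eq_true, List.any_eq_true]
      refine ⟨⟨?_, ?_⟩, e, List.mem_range.2 her, ?_⟩
      · rw [Nat.beq_eq]; exact Nat.mod_eq_zero_of_dvd ⟨c, by rw [hk, mul_comm]⟩
      · rw [Nat.beq_eq]
        apply Nat.mod_eq_zero_of_dvd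
        have h5 := orderOf_dvd_natCard (⟨x, mem_cent.2 rfl⟩ : centralizer ({x} : Set S))
        rwa [Subgroup.orderOf_mk, hx] at h5
      · rw [Bool.and_eq_true, Bool.and_eq_true, Bool.and_eq_true]
        rw [hN] at h1 h2
        refine ⟨⟨⟨?_, ?_⟩, ?_⟩, ?_⟩
        · rw [Bool.not_eq_true', ← Bool.not_eq_true, Nat.beq_eq]; omega
        · rw [Nat.beq_eq]; exact Nat.mod_eq_zero_of_dvd he
        · rw [Nat.beq_eq]; exact Nat.mod_eq_zero_of_dvd h1
        · rw [Nat.beq_eq, h2]; exact Nat.mod_eq_of_lt hr.one_lt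
    rw [hbad, Bool.not_true, Bool.false_or, List.any_eq_true] at h3
    obtain ⟨j, hj, hjk⟩ := h3
    rw [Nat.beq_eq] at hjk
    exact ⟨j, hj, by rw [hjk, hk]⟩

end Cfsg.Agent.H474.TPRows
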