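import Cfsg.Agent.H474.TP.Inter
import Cfsg.Agent.Fischer.Abstract

/-!
# The product of two non-commuting 3-transpositions (helper474)

In a rank three 3-transposition group in which a transposition commutes with all but `m` others, the product of two
non-commuting transpositions has at least `2 m` conjugates: the products `a b` with `a` fixed and `c d` with `c` fixed,
`a ≠ c` commuting, are all different.
-/

set_option autoImplicit false

namespace Cfsg.Agent.H474.RankThree

open Subgroup Cfsg.Agent.Fischer.Abstract

/-- the number of conjugates -/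
theorem card_class {C : Type*} [Group C] (x : C) :
    Nat.card {y : C // ∃ k : C, k * x * k⁻¹ = y} * Nat.card (centralizer ({x} : Set C)) = Nat.card C := by
  have e := Nat.card_congr (MulAction.orbitProdStabilizerEquivGroup (ConjAct C) x)
  rw [Nat.card_prod] at e
  have e1 : Nat.card (MulAction.orbit (ConjAct C) x) = Nat.card {y : C // ∃ k : C, k * x * k⁻¹ = y} := by
    apply Nat.card_congr
    refine Equiv.subtypeEquivRight ?_
    intro y
    constructor
    · rintro ⟨k, hk⟩
      exact ⟨ConjAct.ofConjAct k, by rw [← hk]; rfl⟩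
    · rintro ⟨k, hk⟩
      exact ⟨ConjAct.toConjAct k, by rw [← hk]; rfl⟩
  have e2 : Nat.card (MulAction.stabilizer (ConjAct C) x) = Nat.card (centralizer ({x} : Set C)) := by
    apply Nat.card_congr
    refine (Equiv.subtypeEquiv ConjAct.ofConjAct.toEquiv ?_)
    intro k
    rw [MulAction.mem_stabilizer_iff, ConjAct.smul_def, mul_inv_eq_iff_eq_mul, mem_centralizer_singleton_iff]
    rfl
  rw [← e1, ← e2, e]
  exact Nat.card_congr ConjAct.ofConjAct.toEquiv

/-- two commuting different transpositions do not invert the same element `a b` -/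
theorem cross {G : Type*} [Group G] {a b c d : G} (ha : a * a = 1) (hc : c * c = 1) (hac : a * c = c * a)
    (hne : a ≠ c) (hab : a * b * a = b * a * b) (hnab : a * b ≠ b * a) (hb : b * b = 1)
    (hcd : c * d * c = d * c * d) (hd : d * d = 1)
    (hbc : c * b = b * c ∨ c * b * c = b * c * b) (h : a * b = c * d) : False := by
  -- `c` inverts `a b`
  have h1 : c * (a * b) * c = b * a := by
    have h2 : (a * b) * (b * a) = 1 := by
      calc a * b * (b * a) = a * (b * b) * a := by group
        _ = 1 := by rw [hb, mul_one, ha]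
    have h3 : (a * b) * (c * (a * b) * c) = 1 := by
      rw [h]
      calc c * d * (c * (c * d) * c) = c * d * (c * c) * d * c := by group
        _ = c * (d * d) * c := by rw [hc]; group
        _ = 1 := by rw [hd, mul_one, hc]
    exact mul_left_cancel (h3.trans h2.symm)
  have h2 : c * b * c = a * b * a := by
    have h3 : a * (c * b * c) = b * a := by
      calc a * (c * b * c) = a * c * b * c := by group
        _ = c * a * b * c := by rw [hac]
        _ = c * (a * b) * c := by group
        _ = b * a := h1
    calc c * b * c = (a * a) * (c * b * c) := by rw [ha, one_mul]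
      _ = a * (a * (c * b * c)) := by group
      _ = a * (b * a) := by rw [h3]
      _ = a * b * a := by group
  rcases hbc with hbc | hbc
  · apply hnab
    have h3 : b = a * b * a := by
      rw [← h2, hbc, mul_assoc, hc, mul_one]
    calc a * b = a * (a * b * a) := by rw [← h3]
      _ = (a * a) * b * a := by group
      _ = b * a := by rw [ha, one_mul]
  · apply hne
    have h3 : b * c * b = b * a * b := by rw [← hbc, h2, hab]
    have h4 : c * b = a * b := by
      have : b * (c * b) = b * (a * b) := by rw [← mul_assoc, h3, mul_assoc]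
      exact mul_left_cancel this
    exact (mul_right_cancel h4).symm

variable {G X : Type*} [Group G] [MulAction G X] (R : Rank3 G X)

/-- the product of two non-commuting transpositions -/
def W : G := R.t R.x0 * R.t R.b

theorem sq (x : X) : R.t x * R.t x = 1 := by
  obtain ⟨g, rfl⟩ := R.trans x
  rw [R.map_smul]
  calc g * R.t R.x0 * g⁻¹ * (g * R.t R.x0 * g⁻¹) = g * (R.t R.x0 * R.t R.x0) * g⁻¹ := by group
    _ = 1 := by rw [R.sq]; group

theorem exists_conj {x y : X} (h : ¬ R.Com x y) : ∃ k : G, k * W R * k⁻¹ = R.t x * R.t y := by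
  obtain ⟨k, rfl⟩ := R.trans x
  have h1 : ¬ R.Com R.x0 (k⁻¹ • y) := by
    intro h2
    apply h
    have h3 := (R.com_smul k R.x0 (k⁻¹ • y)).2 h2
    rwa [smul_inv_smul] at h3
  obtain ⟨l, hl, hl2⟩ := R.not_com_x0_iff.1 h1
  refine ⟨k * l, ?_⟩
  have e1 : R.t (k • R.x0) = (k * l) * R.t R.x0 * (k * l)⁻¹ := by
    rw [← R.map_smul, mul_smul, hl]
  have e2 : R.t y = (k * l) * R.t R.b * (k * l)⁻¹ := by
    rw [← R.map_smul, mul_smul, hl2, smul_inv_smul]
  rw [e1, e2]
  unfold W
  group

theorem W_cube : W R ^ 3 = 1 := by
  unfold W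
  have h1 := R.sq
  have h2 := sq R R.b
  calc (R.t R.x0 * R.t R.b) ^ 3 = (R.t R.x0 * R.t R.b * R.t R.x0) * (R.t R.b * R.t R.x0 * R.t R.b) := by
        rw [pow_succ, pow_two]; group
    _ = (R.t R.b * R.t R.x0 * R.t R.b) * (R.t R.b * R.t R.x0 * R.t R.b) := by rw [R.braid_b]
    _ = R.t R.b * R.t R.x0 * (R.t R.b * R.t R.b) * R.t R.x0 * R.t R.b := by group
    _ = R.t R.b * (R.t R.x0 * R.t R.x0) * R.t R.b := by rw [h2]; group
    _ = 1 := by rw [h1, mul_one, h2]

theorem braid {x y : X} (h : ¬ R.Com x y) : R.t x * R.t y * R.t x = R.t y * R.t x * R.t y :=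
  (R.com_or_braid x y).resolve_left h

theorem card_ncom_le [Finite X] (c : X) : Nat.card {y : X // ¬ R.Com R.x0 y} ≤ Nat.card {y : X // ¬ R.Com c y} := by
  obtain ⟨k, rfl⟩ := R.trans c
  refine Nat.card_le_card_of_injective (fun y => ⟨k • (y : X), fun h => y.2 ((R.com_smul k _ _).1 h)⟩) ?_
  intro a b hab
  exact Subtype.ext ((MulAction.injective k) (congrArg Subtype.val hab))

/-- **the class of `W` has at least `2 m` elements** -/
theorem two_mul_le [Finite G] [Finite X] :
    2 * Nat.card {y : X // ¬ R.Com R.x0 y} ≤ Nat.card {y : G // ∃ k : G, k * W R * k⁻¹ = y} := by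
  classical
  have h1 : Nat.card ({y : X // ¬ R.Com R.x0 y} ⊕ {y : X // ¬ R.Com R.c y}) ≤
      Nat.card {y : G // ∃ k : G, k * W R * k⁻¹ = y} := by
    refine Nat.card_le_card_of_injective (Sum.elim
      (fun y => ⟨R.t R.x0 * R.t y, exists_conj R y.2⟩) (fun y => ⟨R.t R.c * R.t y, exists_conj R y.2⟩)) ?_
    have key : ∀ (y : {y : X // ¬ R.Com R.x0 y}) (z : {y : X // ¬ R.Com R.c y}),
        R.t R.x0 * R.t y = R.t R.c * R.t z → False := by
      intro y z h
      refine cross (sq R R.x0) (sq R R.c) R.comm_c (fun h => R.ne_c h.symm) (braid R y.2) (fun h => y.2 h) (sq R y)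
        (braid R z.2) (sq R z) ?_ h
      rcases R.com_or_braid R.c y with h | h
      · exact Or.inl h
      · exact Or.inr h
    rintro (y | y) (z | z) h
    · have h2 := congrArg Subtype.val h
      exact congrArg Sum.inl (Subtype.ext (R.t_injective (mul_left_cancel h2)))
    · exact (key y z (congrArg Subtype.val h)).elim
    · exact (key z y (congrArg Subtype.val h).symm).elim
    · have h2 := congrArg Subtype.val h
      exact congrArg Sum.inr (Subtype.ext (R.t_injective (mul_left_cancel h2)))
  rw [Nat.card_sum] at h1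
  have h2 := card_ncom_le R R.c
  omega

theorem card_cent_mul_le [Finite G] [Finite X] {m : ℕ} (hm : m ≤ Nat.card {y : X // ¬ R.Com R.x0 y}) :
    Nat.card (centralizer ({W R} : Set G)) * (2 * m) ≤ Nat.card G := by
  have h1 := two_mul_le R
  rw [← card_class (W R), mul_comm]
  exact Nat.mul_le_mul_right _ (by omega)

end Cfsg.Agent.H474.RankThree
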