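import Cfsg.Agent.H474.TP.Base
import Cfsg.Agent.H393.Iso.TitsJ4
import Cfsg.Agent.H393.Iso.Monster
import Cfsg.Agent.H393.Iso.J23
import Cfsg.Agent.H393.Iso.He
import Cfsg.Agent.NotCT.Orders

/-!
# `TP` rows: `J₄`, `M`, `J₃`, `HN`, `Th` (helper474)
-/

set_option autoImplicit false

namespace Cfsg.Agent.H474.TPRows

open Subgroup Cfsg Cfsg.Agent.H393.Iso Cfsg.Agent.H691

theorem j4 {S : Type*} [Group S] (h : Spor.IsoJ4 S) : Cfsg.Agent.H691.TP S [(2, 23), (2, 29), (2, 37), (2, 43), (3, 23), (3, 29), (3, 31), (3, 37), (3, 43), (5, 7), (5, 11), (5, 23), (5, 29), (5, 31), (5, 37), (5, 43), (7, 11), (7, 23), (7, 29), (7, 31), (7, 37), (7, 43), (11, 23), (11, 29), (11, 31), (11, 37), (11, 43), (23, 29), (23, 31), (23, 37), (23, 43), (29, 31), (29, 37), (29, 43), (31, 37), (31, 43), (37, 43)] (126 ^ 2) := by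
  have hc := NotCT.Orders.j4 h
  have hfin : Finite S := Nat.finite_of_card_ne_zero (by rw [hc]; norm_num)
  exact tp_pair (r := 29) (r' := 37) (a := 21) (M := 41377816699065) (by norm_num) (by norm_num) (by rw [hc]; norm_num)
    (by norm_num) (by norm_num) (by norm_num) (na_j4_29 h) (na_j4_37 h) (by simp) (by norm_num)

theorem m {S : Type*} [Group S] (h : Spor.IsoM S) : Cfsg.Agent.H691.TP S [(2, 19), (2, 47), (2, 59), (2, 71), (3, 13), (3, 17), (3, 19), (3, 29), (3, 41), (3, 47), (3, 59), (3, 71), (5, 11), (5, 19), (5, 23), (5, 31), (5, 47), (5, 59), (5, 71), (7, 11), (7, 13), (7, 17), (7, 19), (7, 23), (7, 29), (7, 31), (7, 41), (7, 47), (7, 59), (7, 71), (11, 13), (11, 17), (11, 19), (11, 23), (11, 29), (11, 41), (11, 47), (11, 59), (11, 71), (13, 19), (13, 23), (13, 29), (13, 31), (13, 41), (13, 47), (13, 59), (13, 71), (17, 19), (17, 23), (17, 29), (17, 31), (17, 41), (17, 47), (17, 59), (17, 71), (19, 23), (19, 29), (19, 31), (19, 41), (19, 47),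 (19, 59), (19, 71), (23, 29), (23, 31), (23, 41), (23, 47), (23, 59), (23, 71), (29, 31), (29, 41), (29, 47), (29, 59), (29, 71), (31, 41), (31, 47), (31, 59), (31, 71), (41, 47), (41, 59), (41, 71), (47, 59), (47, 71), (59, 71)] (2210 ^ 2) := by
  have hc := NotCT.Orders.m h
  have hfin : Finite S := Nat.finite_of_card_ne_zero (by rw [hc]; norm_num)
  exact tp_pair (r := 59) (r' := 71) (a := 46) (M := 11482618231106483731969943632999939453125) (by norm_num)
    (by norm_num) (by rw [hc]; norm_num)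
    (by norm_num) (by norm_num) (by norm_num) (na_m h (Or.inr (Or.inl rfl))) (na_m h (Or.inr (Or.inr rfl)))
    (by simp) (by norm_num)

theorem j3 {S : Type*} [Group S] (h : Spor.IsoJ3 S) : Cfsg.Agent.H691.TP S [(2, 17), (2, 19), (3, 17), (3, 19), (5, 17), (5, 19), (17, 19)] (20 ^ 2) := by
  have hc := NotCT.Orders.j3 h
  have hfin : Finite S := Nat.finite_of_card_ne_zero (by rw [hc]; norm_num)
  obtain ⟨-, z, Q, v, ρ, n, u, F⟩ := Cfsg.Agent.KFacts.J3.exists_facts h
  have hN : Nat.card S = 2 ^ 7 * 392445 := by rw [hc]; norm_num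
  obtain ⟨t, ht⟩ := exists_order (S := S) Nat.prime_two (by rw [hN]; norm_num)
  refine tp_two (r := 19) (t := t) (c := 1920) (b := 392445 / (3 + 1)) (by norm_num) hN (by norm_num) (na_j3 h)
    (two_pow_of_orderOf ht) ?_
    (fun x hx => cent_le (K := 3) (by norm_num) hN (by norm_num) (by norm_num) (na_j3 h) (by decide +kernel) hx)
    (by simp) (by norm_num)
  obtain ⟨g, hg⟩ := F.one t (ne_one_of_two ht) (sq_of_two ht)
  rw [card_cent_conj hg, F.card_C]

theorem hn {S : Type*} [Group S] (h : Spor.IsoHN S) : Cfsg.Agent.H691.TP S [(2, 7), (2, 11), (2, 19), (3, 5), (3, 7), (3, 11), (3, 19), (5, 7), (5, 11), (5, 19), (7, 11), (7, 19), (11, 19)] (50 ^ 2) := by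
  have hc := NotCT.Orders.hn h
  have hfin : Finite S := Nat.finite_of_card_ne_zero (by rw [hc]; norm_num)
  obtain ⟨e⟩ := h
  have hfin' : Finite Cfsg.Spor.HN := Finite.of_equiv S e.toEquiv
  have hN : Nat.card Cfsg.Spor.HN = 2 ^ 14 * 16664484375 := by
    rw [← Nat.card_congr e.toEquiv, hc]; norm_num
  refine tp_of_equiv e.symm ?_
  obtain ⟨t, ht⟩ := exists_order (S := Cfsg.Spor.HN) Nat.prime_two (by rw [hN]; norm_num)
  refine tp_two' (r := 19) (t := t) (c := 177408000) (by norm_num) hN (by norm_num) (by norm_num) na_hn_model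
    (two_pow_of_orderOf ht) ?_ (by simp) (by norm_num)
  rcases SigZeroHN.card_centralizer_cases ht with ⟨-, h⟩ | ⟨-, h⟩ <;> rw [h]
  norm_num

theorem th {S : Type*} [Group S] (h : Spor.IsoTh S) : Cfsg.Agent.H691.TP S [(2, 19), (3, 13), (3, 19), (3, 31), (5, 7), (5, 19), (5, 31), (7, 13), (7, 19), (7, 31), (13, 19), (13, 31), (19, 31)] (126 ^ 2) := by
  have hc := NotCT.Orders.th h
  have hfin : Finite S := Nat.finite_of_card_ne_zero (by rw [hc]; norm_num)
  obtain ⟨e⟩ := h
  have hfin' : Finite Cfsg.Spor.Th := Finite.of_equiv S e.toEquiv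
  have hN : Nat.card Cfsg.Spor.Th = 2 ^ 15 * 2769346432125 := by
    rw [← Nat.card_congr e.toEquiv, hc]; norm_num
  refine tp_of_equiv e.symm ?_
  obtain ⟨t, ht⟩ := exists_order (S := Cfsg.Spor.Th) Nat.prime_two (by rw [hN]; norm_num)
  exact tp_two' (r := 19) (t := t) (c := 92897280) (by norm_num) hN (by norm_num) (by norm_num) na_th_model
    (two_pow_of_orderOf ht) (MonsterX.ThOneClass.card_centralizer ht).le (by simp) (by norm_num)

end Cfsg.Agent.H474.TPRows
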